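import Mathlib
import Groth.Agent.Lib.Helper67.HHLES

/-!
# Naturality of the connecting map of `Coh.HH` for morphisms of short exact sequences (helper88)
-/

set_option autoImplicit false
universe u
open AlgebraicGeometry CategoryTheory Limits Opposite TopologicalSpace Abelian

namespace Groth.Agent.Lib.Helper88.FormalFn

open Groth.Agent.Lib.Helper1 Groth.Agent.Lib.Helper17.HHLinLES

section Ab

variable {C : Type u} [Category.{u} C] {J : GrothendieckTopology C}
  [HasSheafify J AddCommGrpCat.{u}] [HasExt.{u} (Sheaf J AddCommGrpCat.{u})]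
  {T T' : ShortComplex (Sheaf J AddCommGrpCat.{u})} (hT : T.ShortExact) (hT' : T'.ShortExact)

theorem deltaAb_naturality' (e : T ⟶ T') (i : ℕ) (x : Sheaf.H T.X₃ i) :
    deltaAb hT' i (Sheaf.H.map e.τ₃ i x) = Sheaf.H.map e.τ₁ (i + 1) (deltaAb hT i x) := by
  have hnat := ShortComplex.ShortExact.extClass_naturality hT hT' e
  rw [deltaAb_apply, deltaAb_apply, Sheaf.H.map_apply, Sheaf.H.map_apply]
  refine (Ext.comp_assoc _ _ _ (add_zero i) (zero_add 1) (by omega : i + 0 + 1 = i + 1)).trans ?_
  refine Eq.trans ?_ (Ext.comp_assoc _ _ _ (rfl : i + 1 = i + 1) (add_zero 1)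
    (by omega : i + 1 + 0 = i + 1)).symm
  exact congrArg (fun z => Ext.comp x z (rfl : i + 1 = i + 1)) hnat.symm

end Ab

section Modules

variable (A : Type u) [CommRing A] {X : Scheme.{u}} [X.Over (Spec (CommRingCat.of A))]
variable {S S' : ShortComplex X.Modules} (hS : S.ShortExact) (hS' : S'.ShortExact)

/-- naturality of the connecting map -/
theorem deltaLin_naturality (φ : S ⟶ S') (i : ℕ) (x : Coh.HH X S.X₃ i) :
    deltaLin A hS' i (Canon.HHlin A φ.τ₃ i x) = Canon.HHlin A φ.τ₁ (i + 1) (deltaLin A hS i x) :=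
  deltaAb_naturality' (shortExact_map_toAbF hS) (shortExact_map_toAbF hS')
    ((toAbF X).mapShortComplex.map φ) i x

end Modules

end Groth.Agent.Lib.Helper88.FormalFn
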