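import Mathlib

/-!
# Graded families of modules with degree-one operators (helper88)

`OpFam A ι` is a family `N n` (`n : ℕ`) of `A`-modules with operators `T i n : N n → N (n + 1)`,
`i : ι` (a graded module over a polynomial ring, without the polynomial ring).  For `s : Set ι` a
family of submodules `S n ≤ N n` is `s`-stable if `T i (S n) ≤ S (n + 1)` for `i ∈ s`.
`NoethAbove F s W` is the ascending chain condition on `s`-stable families containing `W`.

Main results:
* `noethAbove_of_sup_rangeSub` (the Hilbert basis step): for `t ∈ s` commuting with the operators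
  in `s`, ACC above `W ⊔ T_t N` implies ACC above `W`.
* `noethAbove_of_generated`: a family generated in degree `0` by finitely many commuting operators
  from a Noetherian module satisfies ACC.
* `eventually_generated`: under ACC every stable family is eventually generated.
-/

set_option autoImplicit false
set_option linter.style.haveILetI false
universe u v w

namespace Groth.Agent.Lib.Helper88.FormalFn

section Order

variable {α β : Type*} [PartialOrder α] [PartialOrder β]

theorem wellFoundedGT_of_map [WellFoundedGT β] (f : α → β) (hmono : Monotone f)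
    (hstrict : ∀ a b, a ≤ b → f a = f b → a = b) : WellFoundedGT α := by
  have hf : StrictMono f := by
    intro a b hab
    refine lt_of_le_of_ne (hmono hab.le) fun h => ?_
    exact hab.ne (hstrict a b hab.le h)
  exact hf.wellFoundedGT

/-- ACC for monotone sequences in a poset with ACC. -/
theorem wellFoundedGT_orderHom_nat [WellFoundedGT β] : WellFoundedGT (ℕ →o β) := by
  rw [wellFoundedGT_iff_monotone_chain_condition]
  intro a
  -- diagonal
  let d : ℕ →o β := ⟨fun k => a k k, fun k l hkl => ((a k).monotone hkl).trans (a.monotone hkl l)⟩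
  obtain ⟨k₀, hk₀⟩ := WellFoundedGT.monotone_chain_condition d
  have hbig : ∀ k j, k₀ ≤ k → k₀ ≤ j → a k j = a k₀ k₀ := by
    intro k j hk hj
    apply le_antisymm
    · have h1 : a k j ≤ a (max k j) (max k j) :=
        ((a k).monotone (le_max_right k j)).trans (a.monotone (le_max_left k j) _)
      have h2 : d k₀ = d (max k j) := hk₀ _ (hk.trans (le_max_left k j))
      exact h1.trans (le_of_eq h2.symm)
    · exact ((a k₀).monotone hj).trans (a.monotone hk j)
  -- each column stabilises
  have hcol : ∀ j, ∃ k₁, ∀ k, k₁ ≤ k → a k₁ j = a k j := by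
    intro j
    let c : ℕ →o β := ⟨fun k => a k j, fun k l hkl => a.monotone hkl j⟩
    exact WellFoundedGT.monotone_chain_condition c
  choose kc hkc using hcol
  let K := max k₀ ((Finset.range k₀).sup kc)
  refine ⟨K, fun m hm => ?_⟩
  ext j
  by_cases hj : k₀ ≤ j
  · change a K j = a m j
    rw [hbig K j (le_max_left _ _) hj, hbig m j ((le_max_left _ _).trans hm) hj]
  · have hj' : j ∈ Finset.range k₀ := Finset.mem_range.mpr (not_le.mp hj)
    have h1 : kc j ≤ K := (Finset.le_sup hj').trans (le_max_right _ _)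
    change a K j = a m j
    rw [← hkc j K h1, ← hkc j m (h1.trans hm)]

end Order

/-- A family of `A`-modules with degree-one operators indexed by `ι`. -/
structure OpFam (A : Type u) [CommRing A] (ι : Type v) where
  /-- the pieces -/
  N : ℕ → Type w
  [grp : ∀ n, AddCommGroup (N n)]
  [mod : ∀ n, Module A (N n)]
  /-- the operators -/
  T : ι → ∀ n, N n →ₗ[A] N (n + 1)

attribute [instance] OpFam.grp OpFam.mod

namespace OpFam

variable {A : Type u} [CommRing A] {ι : Type v} (F : OpFam.{u, v, w} A ι)

/-- families of submodules -/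
abbrev Sub := ∀ n, Submodule A (F.N n)

/-- `s`-stable families -/
def IsStable (s : Set ι) (S : F.Sub) : Prop :=
  ∀ i ∈ s, ∀ n, (S n).map (F.T i n) ≤ S (n + 1)

theorem IsStable.apply_mem {s : Set ι} {S : F.Sub} (hS : F.IsStable s S) {i : ι} (hi : i ∈ s)
    {n : ℕ} {x : F.N n} (hx : x ∈ S n) : F.T i n x ∈ S (n + 1) :=
  hS i hi n (Submodule.mem_map_of_mem hx)

theorem IsStable.mono {s s' : Set ι} (h : s' ⊆ s) {S : F.Sub} (hS : F.IsStable s S) :
    F.IsStable s' S := fun i hi n => hS i (h hi) n

/-- the stable families containing `W` -/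
abbrev Above (s : Set ι) (W : F.Sub) : Type _ := {S : F.Sub // F.IsStable s S ∧ W ≤ S}

/-- ACC on `s`-stable families containing `W` -/
def NoethAbove (s : Set ι) (W : F.Sub) : Prop := WellFoundedGT (F.Above s W)

/-- ACC on `s`-stable families -/
def Noeth (s : Set ι) : Prop := F.NoethAbove s ⊥

/-- the family `T_t N` -/
def rangeSub (t : ι) : F.Sub
  | 0 => ⊥
  | n + 1 => LinearMap.range (F.T t n)

/-- `pre t S = {x | T_t x ∈ S}` -/
def pre (t : ι) (S : F.Sub) : F.Sub := fun n => (S (n + 1)).comap (F.T t n)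

theorem pre_mono (t : ι) {S S' : F.Sub} (h : S ≤ S') : F.pre t S ≤ F.pre t S' :=
  fun n => Submodule.comap_mono (h (n + 1))

theorem iterate_pre_mono (t : ι) (j : ℕ) {S S' : F.Sub} (h : S ≤ S') :
    (F.pre t)^[j] S ≤ (F.pre t)^[j] S' := by
  induction j with
  | zero => exact h
  | succ j ih =>
    rw [Function.iterate_succ_apply', Function.iterate_succ_apply']
    exact F.pre_mono t ih

section Hilbert

variable {s : Set ι} {t : ι} (ht : t ∈ s)
  (hcomm : ∀ i ∈ s, ∀ n (x : F.N n), F.T i (n + 1) (F.T t n x) = F.T t (n + 1) (F.T i n x))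

include ht in
theorem le_pre {S : F.Sub} (hS : F.IsStable s S) : S ≤ F.pre t S :=
  fun _ _ hx => hS.apply_mem F ht hx

include hcomm in
theorem isStable_pre {S : F.Sub} (hS : F.IsStable s S) : F.IsStable s (F.pre t S) := by
  intro i hi n
  rintro _ ⟨x, hx, rfl⟩
  change F.T t (n + 1) (F.T i n x) ∈ S (n + 1 + 1)
  rw [← hcomm i hi n x]
  exact hS.apply_mem F hi hx

include hcomm in
theorem isStable_iterate_pre {S : F.Sub} (hS : F.IsStable s S) (j : ℕ) :
    F.IsStable s ((F.pre t)^[j] S) := by
  induction j with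
  | zero => exact hS
  | succ j ih =>
    rw [Function.iterate_succ_apply']
    exact F.isStable_pre hcomm ih

include ht hcomm in
theorem le_iterate_pre {S : F.Sub} (hS : F.IsStable s S) (j : ℕ) : S ≤ (F.pre t)^[j] S := by
  induction j with
  | zero => exact le_rfl
  | succ j ih =>
    rw [Function.iterate_succ_apply']
    exact ih.trans (F.le_pre ht (F.isStable_iterate_pre hcomm hS j))

include ht hcomm in
theorem iterate_pre_le_succ {S : F.Sub} (hS : F.IsStable s S) (j : ℕ) :
    (F.pre t)^[j] S ≤ (F.pre t)^[j + 1] S := by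
  rw [Function.iterate_succ_apply']
  exact F.le_pre ht (F.isStable_iterate_pre hcomm hS j)

include hcomm in
theorem isStable_rangeSub : F.IsStable s (F.rangeSub t) := by
  intro i hi n
  rintro _ ⟨x, hx, rfl⟩
  cases n with
  | zero =>
    have : x = 0 := by simpa [rangeSub] using hx
    rw [this, map_zero]
    exact Submodule.zero_mem _
  | succ n =>
    obtain ⟨y, rfl⟩ := hx
    exact ⟨F.T i n y, (hcomm i hi n y).symm⟩

theorem isStable_sup {S S' : F.Sub} (hS : F.IsStable s S) (hS' : F.IsStable s S') :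
    F.IsStable s (S ⊔ S') := by
  intro i hi n
  change ((S n) ⊔ (S' n)).map (F.T i n) ≤ (S (n + 1)) ⊔ (S' (n + 1))
  rw [Submodule.map_sup]
  exact sup_le_sup (hS i hi n) (hS' i hi n)

/-- the key separation property: a stable family is determined by the families
`pre^j S ⊔ T_t N`. -/
theorem le_of_iterate_pre_sup_eq {S S' : F.Sub} (hle : S ≤ S')
    (h : ∀ j, (F.pre t)^[j] S ⊔ F.rangeSub t = (F.pre t)^[j] S' ⊔ F.rangeSub t) :
    S' ≤ S := by
  have key : ∀ n j, ((F.pre t)^[j] S') n ≤ ((F.pre t)^[j] S) n := by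
    intro n
    induction n with
    | zero =>
      intro j
      have h0 := congrFun (h j) 0
      change ((F.pre t)^[j] S) 0 ⊔ F.rangeSub t 0 = ((F.pre t)^[j] S') 0 ⊔ F.rangeSub t 0 at h0
      simp only [rangeSub, sup_bot_eq] at h0
      exact le_of_eq h0.symm
    | succ n ih =>
      intro j x hx
      have h1 := congrFun (h j) (n + 1)
      change ((F.pre t)^[j] S) (n + 1) ⊔ F.rangeSub t (n + 1) =
        ((F.pre t)^[j] S') (n + 1) ⊔ F.rangeSub t (n + 1) at h1
      have hx' : x ∈ ((F.pre t)^[j] S) (n + 1) ⊔ F.rangeSub t (n + 1) := by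
        rw [h1]
        exact Submodule.mem_sup_left hx
      obtain ⟨x₁, hx₁, z, hz, rfl⟩ := Submodule.mem_sup.mp hx'
      obtain ⟨y, rfl⟩ := hz
      have hx₁' : x₁ ∈ ((F.pre t)^[j] S') (n + 1) := F.iterate_pre_mono t j hle (n + 1) hx₁
      have hTy : F.T t n y ∈ ((F.pre t)^[j] S') (n + 1) := by
        have := Submodule.sub_mem _ hx hx₁'
        simpa using this
      have hy : y ∈ ((F.pre t)^[j + 1] S') n := by
        rw [Function.iterate_succ_apply']
        exact hTy
      have hy' : y ∈ ((F.pre t)^[j + 1] S) n := ih (j + 1) hy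
      rw [Function.iterate_succ_apply'] at hy'
      exact Submodule.add_mem _ hx₁ hy'
  exact fun n => key n 0

include ht hcomm in
/-- **Hilbert basis step**: ACC above `W ⊔ T_t N` implies ACC above `W`. -/
theorem noethAbove_of_sup_rangeSub (W : F.Sub)
    (h : F.NoethAbove s (W ⊔ F.rangeSub t)) : F.NoethAbove s W := by
  haveI : WellFoundedGT (F.Above s (W ⊔ F.rangeSub t)) := h
  haveI := wellFoundedGT_orderHom_nat (β := F.Above s (W ⊔ F.rangeSub t))
  let Φ : F.Above s W → (ℕ →o F.Above s (W ⊔ F.rangeSub t)) := fun S =>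
    ⟨fun j => ⟨(F.pre t)^[j] S.1 ⊔ F.rangeSub t,
        F.isStable_sup (F.isStable_iterate_pre hcomm S.2.1 j) (F.isStable_rangeSub hcomm),
        sup_le_sup_right (S.2.2.trans (F.le_iterate_pre ht hcomm S.2.1 j)) _⟩,
      by
        intro j l hjl
        change (F.pre t)^[j] S.1 ⊔ F.rangeSub t ≤ (F.pre t)^[l] S.1 ⊔ F.rangeSub t
        refine sup_le_sup_right ?_ _
        exact monotone_nat_of_le_succ (f := fun j => (F.pre t)^[j] S.1)
          (fun j => F.iterate_pre_le_succ ht hcomm S.2.1 j) hjl⟩
  refine wellFoundedGT_of_map Φ ?_ ?_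
  · intro S S' hSS' j
    change (F.pre t)^[j] S.1 ⊔ F.rangeSub t ≤ (F.pre t)^[j] S'.1 ⊔ F.rangeSub t
    exact sup_le_sup_right (F.iterate_pre_mono t j hSS') _
  · intro S S' hSS' hΦ
    apply Subtype.ext
    refine le_antisymm (show S.1 ≤ S'.1 from hSS') ?_
    refine F.le_of_iterate_pre_sup_eq (t := t) hSS' fun j => ?_
    have := congrArg (fun φ : ℕ →o F.Above s (W ⊔ F.rangeSub t) => (φ j).1) hΦ
    exact this

end Hilbert

/-- shrinking the set of stable families preserves ACC -/
theorem NoethAbove.mono {s s' : Set ι} {W W' : F.Sub} (hs : s' ⊆ s) (hW : W' ≤ W)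
    (h : F.NoethAbove s' W') : F.NoethAbove s W := by
  haveI : WellFoundedGT (F.Above s' W') := h
  refine wellFoundedGT_of_map (fun S : F.Above s W => (⟨S.1, S.2.1.mono F hs, hW.trans S.2.2⟩ :
    F.Above s' W')) (fun _ _ h => h) ?_
  intro S S' _ h
  have h' : S.1 = S'.1 := congrArg (fun T : F.Above s' W' => T.1) h
  exact Subtype.ext h'

section Generated

/-- A family generated from a Noetherian degree-zero piece by finitely many commuting operators
(modulo `W`) satisfies ACC above `W`. -/
theorem noethAbove_of_generated [IsNoetherian A (F.N 0)] (s : Finset ι)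
    (hcomm : ∀ i ∈ s, ∀ j ∈ s, ∀ n (x : F.N n),
      F.T i (n + 1) (F.T j n x) = F.T j (n + 1) (F.T i n x)) :
    ∀ (W : F.Sub), (∀ n, W (n + 1) ⊔ ⨆ i ∈ s, LinearMap.range (F.T i n) = ⊤) →
      F.NoethAbove (↑s) W := by
  classical
  induction s using Finset.induction_on with
  | empty =>
    intro W hW
    have hW' : ∀ n, W (n + 1) = ⊤ := by
      intro n
      have := hW n
      simpa using this
    refine wellFoundedGT_of_map (fun S : F.Above (↑(∅ : Finset ι)) W => S.1 0)
      (fun _ _ h => h 0) ?_
    intro S S' hSS' h0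
    apply Subtype.ext
    funext n
    cases n with
    | zero => exact h0
    | succ n =>
      have h1 : S.1 (n + 1) = ⊤ := top_le_iff.mp ((hW' n).symm.le.trans (S.2.2 (n + 1)))
      have h2 : S'.1 (n + 1) = ⊤ := top_le_iff.mp ((hW' n).symm.le.trans (S'.2.2 (n + 1)))
      rw [h1, h2]
  | insert t s hts ih =>
    intro W hW
    have hcomm' : ∀ i ∈ s, ∀ j ∈ s, ∀ n (x : F.N n),
        F.T i (n + 1) (F.T j n x) = F.T j (n + 1) (F.T i n x) :=
      fun i hi j hj => hcomm i (Finset.mem_insert_of_mem hi) j (Finset.mem_insert_of_mem hj)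
    have h1 : F.NoethAbove (↑s) (W ⊔ F.rangeSub t) := by
      refine ih hcomm' _ fun n => ?_
      have := hW n
      rw [Finset.iSup_insert] at this
      change (W (n + 1) ⊔ LinearMap.range (F.T t n)) ⊔ _ = ⊤
      rw [sup_assoc]
      exact this
    have h2 : F.NoethAbove (↑(insert t s)) (W ⊔ F.rangeSub t) :=
      NoethAbove.mono F (by simp) le_rfl h1
    refine F.noethAbove_of_sup_rangeSub (s := ↑(insert t s)) (t := t) (by simp) ?_ W h2
    intro i hi n x
    exact hcomm i (by simpa using hi) t (Finset.mem_insert_self t s) n x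

end Generated

section EvGen

variable (s : Set ι)

/-- the family generated by `S` up to degree `k` -/
noncomputable def gen (S : F.Sub) (k : ℕ) : F.Sub := fun n =>
  Nat.rec (motive := fun n => Submodule A (F.N n)) (S 0)
    (fun n prev => if n + 1 ≤ k then S (n + 1) else ⨆ i ∈ s, prev.map (F.T i n)) n

theorem gen_zero (S : F.Sub) (k : ℕ) : F.gen s S k 0 = S 0 := rfl

theorem gen_succ (S : F.Sub) (k n : ℕ) :
    F.gen s S k (n + 1) =
      if n + 1 ≤ k then S (n + 1) else ⨆ i ∈ s, (F.gen s S k n).map (F.T i n) := rfl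

theorem gen_of_le (S : F.Sub) {k n : ℕ} (h : n ≤ k) : F.gen s S k n = S n := by
  cases n with
  | zero => rfl
  | succ n => rw [gen_succ, if_pos h]

theorem gen_succ_of_lt (S : F.Sub) {k n : ℕ} (h : k < n + 1) :
    F.gen s S k (n + 1) = ⨆ i ∈ s, (F.gen s S k n).map (F.T i n) := by
  rw [gen_succ, if_neg (not_le.mpr h)]

variable {s}

theorem gen_le {S : F.Sub} (hS : F.IsStable s S) (k : ℕ) : F.gen s S k ≤ S := by
  intro n
  induction n with
  | zero => exact le_rfl
  | succ n ih =>
    rw [gen_succ]
    split_ifs with h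
    · exact le_rfl
    · refine iSup₂_le fun i hi => ?_
      exact (Submodule.map_mono ih).trans (hS i hi n)

theorem isStable_gen {S : F.Sub} (hS : F.IsStable s S) (k : ℕ) : F.IsStable s (F.gen s S k) := by
  intro i hi n
  rw [gen_succ]
  split_ifs with h
  · exact (Submodule.map_mono (F.gen_le hS k n)).trans (hS i hi n)
  · exact le_iSup₂_of_le i hi le_rfl

theorem gen_mono {S : F.Sub} (hS : F.IsStable s S) {k l : ℕ} (hkl : k ≤ l) :
    F.gen s S k ≤ F.gen s S l := by
  intro n
  induction n with
  | zero => exact le_rfl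
  | succ n ih =>
    by_cases h : n + 1 ≤ l
    · rw [F.gen_of_le s S h]
      exact F.gen_le hS k (n + 1)
    · have h' : ¬ n + 1 ≤ k := fun hk => h (hk.trans hkl)
      rw [gen_succ, gen_succ, if_neg h, if_neg h']
      exact iSup₂_mono fun i _ => Submodule.map_mono ih

/-- under ACC every stable family is eventually generated -/
theorem eventually_generated (h : F.Noeth s) {S : F.Sub} (hS : F.IsStable s S) :
    ∃ n₀, ∀ n, n₀ ≤ n → S (n + 1) = ⨆ i ∈ s, (S n).map (F.T i n) := by
  haveI : WellFoundedGT (F.Above s ⊥) := h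
  let c : ℕ →o F.Above s ⊥ :=
    ⟨fun k => ⟨F.gen s S k, F.isStable_gen hS k, bot_le⟩, fun k l hkl => F.gen_mono hS hkl⟩
  obtain ⟨k₀, hk₀⟩ := WellFoundedGT.monotone_chain_condition c
  have hk : ∀ m, k₀ ≤ m → F.gen s S k₀ = F.gen s S m := fun m hm =>
    congrArg Subtype.val (hk₀ m hm)
  refine ⟨k₀, fun n hn => ?_⟩
  have e1 : S (n + 1) = F.gen s S k₀ (n + 1) := by
    rw [hk (n + 1) (by omega), F.gen_of_le s S le_rfl]
  have e2 : F.gen s S k₀ n = S n := by
    rw [hk n hn, F.gen_of_le s S le_rfl]
  rw [e1, F.gen_succ_of_lt s S (by omega : k₀ < n + 1), e2]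

end EvGen

end OpFam

end Groth.Agent.Lib.Helper88.FormalFn
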