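import Mathlib
import Groth.Agent.Lib.Helper88.FormalFn.OpFam

/-!
# Transfer of the ascending chain condition between graded families (helper88)

* `noeth_of_injective` : a family embedded in `F` on which `T_t` vanishes inherits ACC.
* `noeth_of_surjective` : a quotient of `F` (shifted by one) on which `T_t` vanishes inherits ACC.
* `noeth_of_two_step` : the cohomological step `T_t = β ∘ α` with the two exact sequences.
* `noeth_of_eventually_zero` : a family with Noetherian pieces vanishing in large degrees has ACC.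
-/

set_option autoImplicit false
set_option linter.style.haveILetI false
universe u v w w'

namespace Groth.Agent.Lib.Helper88.FormalFn

namespace OpFam

variable {A : Type u} [CommRing A] {ι : Type v}

section Injective

variable (F : OpFam.{u, v, w} A ι) (K : OpFam.{u, v, w'} A ι) {s : Set ι} {t : ι}
  (u : ∀ n, K.N n →ₗ[A] F.N n) (hu : ∀ n, Function.Injective (u n))
  (hcomm : ∀ i ∈ s, ∀ n (x : K.N n), u (n + 1) (K.T i n x) = F.T i n (u n x))
  (hzero : ∀ n (x : K.N n), F.T t n (u n x) = 0)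

include hu hcomm hzero in
theorem noeth_of_injective (h : F.Noeth (insert t s)) : K.Noeth s := by
  haveI : WellFoundedGT (F.Above (insert t s) ⊥) := h
  refine wellFoundedGT_of_map (fun S : K.Above s ⊥ =>
    (⟨fun n => (S.1 n).map (u n), ?_, bot_le⟩ : F.Above (insert t s) ⊥)) ?_ ?_
  · intro i hi n
    rintro _ ⟨_, ⟨x, hx, rfl⟩, rfl⟩
    rcases hi with rfl | hi
    · rw [hzero]
      exact Submodule.zero_mem _
    · rw [← hcomm i hi n x]
      exact Submodule.mem_map_of_mem (S.2.1.apply_mem K hi hx)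
  · intro S S' hSS' n
    exact Submodule.map_mono (hSS' n)
  · intro S S' _ h
    apply Subtype.ext
    funext n
    have h' : (S.1 n).map (u n) = (S'.1 n).map (u n) :=
      congrFun (congrArg (fun T : F.Above (insert t s) ⊥ => T.1) h) n
    exact Submodule.map_injective_of_injective (hu n) h'

end Injective

section Surjective

variable (F : OpFam.{u, v, w} A ι) (C : OpFam.{u, v, w'} A ι) {s : Set ι} {t : ι}
  (v : ∀ n, F.N (n + 1) →ₗ[A] C.N n) (hv : ∀ n, Function.Surjective (v n))
  (hcomm : ∀ i ∈ s, ∀ n (x : F.N (n + 1)), v (n + 1) (F.T i (n + 1) x) = C.T i n (v n x))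
  (hzero : ∀ n (x : F.N n), v n (F.T t n x) = 0)

/-- the pull-back of a family on `C` to `F` -/
def pullSub (S : C.Sub) : F.Sub
  | 0 => ⊥
  | n + 1 => (S n).comap (v n)

include hv hcomm hzero in
theorem noeth_of_surjective (h : F.Noeth (insert t s)) : C.Noeth s := by
  haveI : WellFoundedGT (F.Above (insert t s) ⊥) := h
  refine wellFoundedGT_of_map (fun S : C.Above s ⊥ =>
    (⟨pullSub F C v S.1, ?_, bot_le⟩ : F.Above (insert t s) ⊥)) ?_ ?_
  · intro i hi n
    rintro _ ⟨x, hx, rfl⟩
    change v n (F.T i n x) ∈ S.1 n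
    rcases hi with rfl | hi
    · rw [hzero]
      exact Submodule.zero_mem _
    · cases n with
      | zero =>
        have hx0 : x = 0 := hx
        rw [hx0, map_zero, map_zero]
        exact Submodule.zero_mem _
      | succ n =>
        rw [hcomm i hi n x]
        exact S.2.1.apply_mem C hi hx
  · intro S S' hSS' n
    cases n with
    | zero => exact le_rfl
    | succ n => exact Submodule.comap_mono (hSS' n)
  · intro S S' _ h
    apply Subtype.ext
    funext n
    have h' : (S.1 n).comap (v n) = (S'.1 n).comap (v n) :=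
      congrFun (congrArg (fun T : F.Above (insert t s) ⊥ => T.1) h) (n + 1)
    exact Submodule.comap_injective_of_surjective (hv n) h'

end Surjective


section TwoStep

variable (E : OpFam.{u, v, w} A ι) (M : OpFam.{u, v, w} A ι) (HK : OpFam.{u, v, w} A ι)
  (HC : OpFam.{u, v, w} A ι) {s : Set ι} {t : ι}
  (α : ∀ n, E.N n →ₗ[A] M.N n) (β : ∀ n, M.N n →ₗ[A] E.N (n + 1))
  (γ : ∀ n, E.N (n + 1) →ₗ[A] HC.N n) (δ : ∀ n, M.N n →ₗ[A] HK.N n)
  (hβα : ∀ n (x : E.N n), β n (α n x) = E.T t n x)
  (hαδ : ∀ n, LinearMap.range (α n) = LinearMap.ker (δ n))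
  (hβγ : ∀ n, LinearMap.range (β n) = LinearMap.ker (γ n))
  (hβT : ∀ i ∈ s, ∀ n (m : M.N n), β (n + 1) (M.T i n m) = E.T i (n + 1) (β n m))
  (hγT : ∀ i ∈ s, ∀ n (x : E.N (n + 1)), γ (n + 1) (E.T i (n + 1) x) = HC.T i n (γ n x))
  (hδT : ∀ i ∈ s, ∀ n (m : M.N n), δ (n + 1) (M.T i n m) = HK.T i n (δ n m))
  (hcomm : ∀ i ∈ insert t s, ∀ n (x : E.N n),
    E.T i (n + 1) (E.T t n x) = E.T t (n + 1) (E.T i n x))

include hβα hαδ hβγ hβT hγT hδT hcomm in
/-- the cohomological step: `T_t = β ∘ α`, `E_n → M_n → HK_n` and `M_n → E_(n+1) → HC_n` exact,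
`HK` and `HC` with ACC for `s`, `E_0` Noetherian: then `E` has ACC for `insert t s`. -/
theorem noeth_of_two_step [IsNoetherian A (E.N 0)] (hK : HK.Noeth s) (hC : HC.Noeth s) :
    E.Noeth (insert t s) := by
  haveI : WellFoundedGT (HK.Above s ⊥) := hK
  haveI : WellFoundedGT (HC.Above s ⊥) := hC
  refine E.noethAbove_of_sup_rangeSub (s := insert t s) (t := t) (Set.mem_insert t s) hcomm ⊥ ?_
  refine wellFoundedGT_of_map (fun S : E.Above (insert t s) (⊥ ⊔ E.rangeSub t) =>
    ((S.1 0, (⟨fun n => (S.1 (n + 1)).map (γ n), ?_, bot_le⟩ : HC.Above s ⊥),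
      (⟨fun n => ((S.1 (n + 1)).comap (β n)).map (δ n), ?_, bot_le⟩ : HK.Above s ⊥)) :
      Submodule A (E.N 0) × HC.Above s ⊥ × HK.Above s ⊥)) ?_ ?_
  · intro i hi n
    rintro _ ⟨_, ⟨x, hx, rfl⟩, rfl⟩
    rw [← hγT i hi n x]
    exact Submodule.mem_map_of_mem (S.2.1.apply_mem E (Set.mem_insert_of_mem t hi) hx)
  · intro i hi n
    rintro _ ⟨_, ⟨m, hm, rfl⟩, rfl⟩
    rw [← hδT i hi n m]
    refine Submodule.mem_map_of_mem ?_
    change β (n + 1) (M.T i n m) ∈ S.1 (n + 1 + 1)
    rw [hβT i hi n m]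
    exact S.2.1.apply_mem E (Set.mem_insert_of_mem t hi) hm
  · intro S S' hSS'
    refine ⟨hSS' 0, ?_, ?_⟩
    · intro n
      exact Submodule.map_mono (hSS' (n + 1))
    · intro n
      exact Submodule.map_mono (Submodule.comap_mono (hSS' (n + 1)))
  · intro S S' hSS' h
    apply Subtype.ext
    funext n
    have h0 : S.1 0 = S'.1 0 := congrArg Prod.fst h
    have h1 : ∀ n, (S.1 (n + 1)).map (γ n) = (S'.1 (n + 1)).map (γ n) := fun n =>
      congrFun (congrArg (fun T : Submodule A (E.N 0) × HC.Above s ⊥ × HK.Above s ⊥ => T.2.1.1) h) n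
    have h2 : ∀ n, ((S.1 (n + 1)).comap (β n)).map (δ n) =
        ((S'.1 (n + 1)).comap (β n)).map (δ n) := fun n =>
      congrFun (congrArg (fun T : Submodule A (E.N 0) × HC.Above s ⊥ × HK.Above s ⊥ => T.2.2.1) h) n
    cases n with
    | zero => exact h0
    | succ n =>
      apply le_antisymm (hSS' (n + 1))
      intro x' hx'
      -- `γ x' = γ x` with `x ∈ S`
      have hγ : γ n x' ∈ (S.1 (n + 1)).map (γ n) := by
        rw [h1 n]
        exact Submodule.mem_map_of_mem hx'
      obtain ⟨x, hx, hxx'⟩ := hγ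
      have hker : x' - x ∈ LinearMap.ker (γ n) := by
        rw [LinearMap.mem_ker, map_sub, hxx', sub_self]
      rw [← hβγ n] at hker
      obtain ⟨m, hm⟩ := hker
      have hm' : m ∈ (S'.1 (n + 1)).comap (β n) := by
        change β n m ∈ S'.1 (n + 1)
        rw [hm]
        exact Submodule.sub_mem _ hx' (hSS' (n + 1) hx)
      have hδ : δ n m ∈ ((S.1 (n + 1)).comap (β n)).map (δ n) := by
        rw [h2 n]
        exact Submodule.mem_map_of_mem hm'
      obtain ⟨m₁, hm₁, hmm₁⟩ := hδ
      have hker2 : m - m₁ ∈ LinearMap.ker (δ n) := by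
        rw [LinearMap.mem_ker, map_sub, hmm₁, sub_self]
      rw [← hαδ n] at hker2
      obtain ⟨e, he⟩ := hker2
      have hTe : E.T t n e ∈ S.1 (n + 1) := by
        have hr : E.rangeSub t (n + 1) ≤ S.1 (n + 1) :=
          (le_sup_right : E.rangeSub t ≤ ⊥ ⊔ E.rangeSub t).trans S.2.2 (n + 1)
        exact hr ⟨e, rfl⟩
      have hx'eq : x' = x + (β n m₁ + E.T t n e) := by
        have e1 : β n m = β n m₁ + E.T t n e := by
          rw [← hβα n e, he, map_sub]
          abel
        rw [← e1, hm]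
        abel
      rw [hx'eq]
      exact Submodule.add_mem _ hx (Submodule.add_mem _ hm₁ hTe)

end TwoStep

section EventuallyZero

variable (E : OpFam.{u, v, w} A ι) (s : Set ι)

/-- a family with Noetherian pieces which vanishes in large degrees satisfies ACC -/
theorem noeth_of_eventually_zero [∀ n, IsNoetherian A (E.N n)] (n₀ : ℕ)
    (h : ∀ n, n₀ ≤ n → Subsingleton (E.N n)) : E.Noeth s := by
  change WellFoundedGT (E.Above s ⊥)
  rw [wellFoundedGT_iff_monotone_chain_condition]
  intro a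
  have hcol : ∀ n, ∃ k₁, ∀ k, k₁ ≤ k → (a k₁).1 n = (a k).1 n := by
    intro n
    let c : ℕ →o Submodule A (E.N n) := ⟨fun k => (a k).1 n, fun k l hkl => a.monotone hkl n⟩
    exact WellFoundedGT.monotone_chain_condition c
  choose kc hkc using hcol
  let K := (Finset.range n₀).sup kc
  refine ⟨K, fun m hm => ?_⟩
  apply Subtype.ext
  funext n
  by_cases hn : n₀ ≤ n
  · haveI := h n hn
    exact Subsingleton.elim _ _
  · have hn' : n ∈ Finset.range n₀ := Finset.mem_range.mpr (not_le.mp hn)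
    have h1 : kc n ≤ K := Finset.le_sup hn'
    rw [← hkc n K h1, ← hkc n m (h1.trans hm)]

end EventuallyZero

section Empty

variable (F : OpFam.{u, v, w} A ι)

/-- ACC without operators forces the family to vanish in large degrees -/
theorem eventually_subsingleton_of_noeth_empty (h : F.Noeth ∅) :
    ∃ n₀, ∀ n, n₀ ≤ n → Subsingleton (F.N n) := by
  haveI : WellFoundedGT (F.Above ∅ ⊥) := h
  let c : ℕ →o F.Above ∅ ⊥ :=
    ⟨fun k => ⟨fun n => if n ≤ k then ⊤ else ⊥, fun i hi => absurd hi (Set.notMem_empty i), bot_le⟩,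
      by
        intro k l hkl n
        change (if n ≤ k then (⊤ : Submodule A (F.N n)) else ⊥) ≤ if n ≤ l then ⊤ else ⊥
        by_cases hn : n ≤ k
        · rw [if_pos hn, if_pos (hn.trans hkl)]
        · rw [if_neg hn]
          exact bot_le⟩
  obtain ⟨k₀, hk₀⟩ := WellFoundedGT.monotone_chain_condition c
  refine ⟨k₀ + 1, fun n hn => ?_⟩
  have h1 : (c k₀).1 n = (c n).1 n := congrFun (congrArg Subtype.val (hk₀ n (by omega))) n
  change (if n ≤ k₀ then (⊤ : Submodule A (F.N n)) else ⊥) = if n ≤ n then ⊤ else ⊥ at h1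
  rw [if_neg (by omega), if_pos le_rfl] at h1
  exact (Submodule.subsingleton_iff A).mp (subsingleton_of_bot_eq_top h1)

end Empty

end OpFam

end Groth.Agent.Lib.Helper88.FormalFn
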