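import Mathlib
import Groth.Agent.Lib.Helper67.HHLES
import Groth.Agent.Lib.Helper45.ModulesExact
import Groth.Agent.Lib.Helper88.FormalFn.Transfer

/-!
# Graded families of O_X-modules with operators and their cohomology (helper88)

`ShFam X ι`: modules `N n` with commuting operators `T i n : N n ⟶ N (n + 1)`.
Main theorem `noeth_cohFam`: for `X` proper over a Noetherian ring `A`, a family of coherent
modules whose section families over affine opens satisfy ACC has cohomology families with ACC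
(i.e. `⊕_n H^p(X, N n)` is a Noetherian graded `A[T_i]`-module).
-/

set_option autoImplicit false
set_option linter.style.haveILetI false
universe u v
open AlgebraicGeometry CategoryTheory Limits Opposite TopologicalSpace Abelian

namespace Groth.Agent.Lib.Helper88.FormalFn

open Groth.Agent.Lib.Helper1 Groth.Agent.Lib.Helper17.HHLinLES Groth.Agent.Lib.Helper67.HHLES
open Groth.Agent.Lib.Helper45

/-- A graded family of `O_X`-modules with commuting degree-one operators. -/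
structure ShFam (X : Scheme.{u}) (ι : Type v) where
  /-- the pieces -/
  N : ℕ → X.Modules
  /-- the operators -/
  T : ι → ∀ n, N n ⟶ N (n + 1)
  comm : ∀ i j n, T i n ≫ T j (n + 1) = T j n ≫ T i (n + 1)

namespace ShFam

variable {X : Scheme.{u}} {ι : Type v} (𝒩 : ShFam X ι)

/-- sections over `U` -/
noncomputable def secFam (U : X.Opens) : OpFam.{u, v, u} Γ(X, U) ι where
  N n := Γ(𝒩.N n, U)
  T i n := appₗ (𝒩.T i n) U

/-- cohomology in degree `p` -/
noncomputable def cohFam (A : Type u) [CommRing A] [X.Over (Spec (CommRingCat.of A))] (p : ℕ) :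
    OpFam.{u, v, u} A ι where
  N n := Coh.HH X (𝒩.N n) p
  T i n := Canon.HHlin A (𝒩.T i n) p

/-- the operators on the kernels of `T t` -/
noncomputable def kerMap (t i : ι) (n : ℕ) : kernel (𝒩.T t n) ⟶ kernel (𝒩.T t (n + 1)) :=
  kernel.map (𝒩.T t n) (𝒩.T t (n + 1)) (𝒩.T i n) (𝒩.T i (n + 1)) (𝒩.comm t i n)

@[reassoc]
theorem kerMap_ι (t i : ι) (n : ℕ) :
    𝒩.kerMap t i n ≫ kernel.ι (𝒩.T t (n + 1)) = kernel.ι (𝒩.T t n) ≫ 𝒩.T i n :=
  kernel.lift_ι _ _ _

/-- the kernels of `T t` -/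
noncomputable def ker (t : ι) : ShFam X ι where
  N n := kernel (𝒩.T t n)
  T i n := 𝒩.kerMap t i n
  comm i j n := by
    rw [← cancel_mono (kernel.ι (𝒩.T t (n + 1 + 1))), Category.assoc, Category.assoc, kerMap_ι,
      kerMap_ι, kerMap_ι_assoc, kerMap_ι_assoc, 𝒩.comm i j n]

/-- the operators on the cokernels of `T t` -/
noncomputable def cokerMap (t i : ι) (n : ℕ) : cokernel (𝒩.T t n) ⟶ cokernel (𝒩.T t (n + 1)) :=
  cokernel.map (𝒩.T t n) (𝒩.T t (n + 1)) (𝒩.T i n) (𝒩.T i (n + 1)) (𝒩.comm t i n)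

@[reassoc]
theorem π_cokerMap (t i : ι) (n : ℕ) :
    cokernel.π (𝒩.T t n) ≫ 𝒩.cokerMap t i n = 𝒩.T i (n + 1) ≫ cokernel.π (𝒩.T t (n + 1)) :=
  cokernel.π_desc _ _ _

/-- the cokernels of `T t` (placed in the degree of the source) -/
noncomputable def coker (t : ι) : ShFam X ι where
  N n := cokernel (𝒩.T t n)
  T i n := 𝒩.cokerMap t i n
  comm i j n := by
    rw [← cancel_epi (cokernel.π (𝒩.T t n)), π_cokerMap_assoc, π_cokerMap_assoc, π_cokerMap,
      π_cokerMap, ← Category.assoc, ← Category.assoc, 𝒩.comm i j (n + 1)]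

/-- the images of `T t` -/
noncomputable abbrev img (t : ι) (n : ℕ) : X.Modules := Abelian.image (𝒩.T t n)

/-- the operators on the images -/
noncomputable def imgMap (t i : ι) (n : ℕ) : 𝒩.img t n ⟶ 𝒩.img t (n + 1) :=
  kernel.map (cokernel.π (𝒩.T t n)) (cokernel.π (𝒩.T t (n + 1))) (𝒩.T i (n + 1))
    (𝒩.cokerMap t i n) (𝒩.π_cokerMap t i n)

@[reassoc]
theorem imgMap_ι (t i : ι) (n : ℕ) :
    𝒩.imgMap t i n ≫ Abelian.image.ι (𝒩.T t (n + 1)) = Abelian.image.ι (𝒩.T t n) ≫ 𝒩.T i (n + 1) :=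
  kernel.lift_ι _ _ _

@[reassoc]
theorem factorThruImage_imgMap (t i : ι) (n : ℕ) :
    Abelian.factorThruImage (𝒩.T t n) ≫ 𝒩.imgMap t i n =
      𝒩.T i n ≫ Abelian.factorThruImage (𝒩.T t (n + 1)) := by
  rw [← cancel_mono (Abelian.image.ι (𝒩.T t (n + 1))), Category.assoc, imgMap_ι,
    ← Category.assoc, Abelian.image.fac, Category.assoc, Abelian.image.fac, 𝒩.comm t i n]

/-- `0 ⟶ img ⟶ N (n+1) ⟶ coker ⟶ 0` -/
noncomputable def imgCokerComplex (t : ι) (n : ℕ) : ShortComplex X.Modules :=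
  ShortComplex.mk (Abelian.image.ι (𝒩.T t n)) (cokernel.π (𝒩.T t n)) (kernel.condition _)

theorem imgCokerComplex_shortExact (t : ι) (n : ℕ) : (𝒩.imgCokerComplex t n).ShortExact := by
  have hex : (𝒩.imgCokerComplex t n).Exact :=
    ShortComplex.exact_of_f_is_kernel _ (kernelIsKernel (cokernel.π (𝒩.T t n)))
  exact ShortComplex.ShortExact.mk' hex (inferInstanceAs (Mono (kernel.ι _)))
    (inferInstanceAs (Epi (cokernel.π _)))

/-- the morphism of short exact sequences `ker ⟶ N ⟶ img` induced by `T i` -/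
noncomputable def kerImHom (t i : ι) (n : ℕ) :
    kerImComplex (𝒩.T t n) ⟶ kerImComplex (𝒩.T t (n + 1)) where
  τ₁ := (𝒩.ker t).T i n
  τ₂ := 𝒩.T i n
  τ₃ := 𝒩.imgMap t i n
  comm₁₂ := 𝒩.kerMap_ι t i n
  comm₂₃ := (𝒩.factorThruImage_imgMap t i n).symm

end ShFam

end Groth.Agent.Lib.Helper88.FormalFn
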