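import Mathlib
import Groth.Agent.S0002
import Groth.Agent.Lib.Helper45.QCohStalk
import Groth.Agent.Lib.Helper18.EpiAffine
import Groth.Agent.Lib.Helper45.Dev.GraphTrick
import Groth.Agent.Lib.Helper88.FormalFn.ShFam
import Groth.Agent.Lib.Helper88.FormalFn.Delta

/-!
# Finiteness of `⊕_n H^p(X, N n)` over `A[T_i]` (helper88)

`noeth_cohFam`: `X` proper over Noetherian `A`, `𝒩` a graded family of coherent modules with
commuting operators whose section families over affine opens satisfy ACC (w.r.t. the operators in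
the finite set `s`): then the cohomology families satisfy ACC.
-/

set_option autoImplicit false
set_option linter.style.haveILetI false
universe u v
open AlgebraicGeometry CategoryTheory Limits Opposite TopologicalSpace Abelian

namespace Groth.Agent.Lib.Helper88.FormalFn

open Groth.Agent.Lib.Helper1 Groth.Agent.Lib.Helper17.HHLinLES Groth.Agent.Lib.Helper67.HHLES
open Groth.Agent.Lib.Helper45

variable {X : Scheme.{u}} {ι : Type v}

namespace ShFam

variable (𝒩 : ShFam X ι)

/-- ACC for the section families over all affine opens -/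
def LocNoeth (s : Set ι) : Prop :=
  ∀ U : X.Opens, IsAffineOpen U → (𝒩.secFam U).Noeth s

theorem locNoeth_ker {s : Set ι} {t : ι} (h : 𝒩.LocNoeth (insert t s)) :
    (𝒩.ker t).LocNoeth s := by
  intro U hU
  refine OpFam.noeth_of_injective (𝒩.secFam U) ((𝒩.ker t).secFam U)
    (fun n => appₗ (kernel.ι (𝒩.T t n)) U) ?_ ?_ ?_ (h U hU)
  · intro n
    exact app_injective_of_mono (kernel.ι (𝒩.T t n)) U
  · intro i _ n x
    exact congrArg (fun φ => (Scheme.Modules.Hom.app φ U) x) (𝒩.kerMap_ι t i n)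
  · intro n x
    exact congrArg (fun φ => (Scheme.Modules.Hom.app φ U) x) (kernel.condition (𝒩.T t n))

theorem locNoeth_coker (hq : ∀ n, (𝒩.N n).IsQuasicoherent) {s : Set ι} {t : ι}
    (h : 𝒩.LocNoeth (insert t s)) : (𝒩.coker t).LocNoeth s := by
  intro U hU
  refine OpFam.noeth_of_surjective (𝒩.secFam U) ((𝒩.coker t).secFam U)
    (fun n => appₗ (cokernel.π (𝒩.T t n)) U) ?_ ?_ ?_ (h U hU)
  · intro n
    haveI := hq (n + 1)
    haveI : (cokernel (𝒩.T t n)).IsQuasicoherent :=
      Groth.Agent.Lib.Helper49.isQuasicoherent_cokernel _ (hq n) (hq (n + 1))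
    exact Groth.Agent.Lib.Helper18.EpiAffine.app_surjective_of_epi (cokernel.π (𝒩.T t n)) hU
  · intro i _ n x
    exact (congrArg (fun φ => (Scheme.Modules.Hom.app φ U) x) (𝒩.π_cokerMap t i n)).symm
  · intro n x
    exact congrArg (fun φ => (Scheme.Modules.Hom.app φ U) x) (cokernel.condition (𝒩.T t n))

attribute [local instance] Groth.Agent.Lib.Helper45.stalkModuleSections

theorem stalk_subsingleton_of_sections {U : X.Opens} (hU : IsAffineOpen U) (F : X.Modules)
    [F.IsQuasicoherent] (h : Subsingleton Γ(F, U)) (x : U) :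
    Subsingleton (F.presheaf.stalk (x : X)) := by
  have hloc := isLocalizedModule_germₗ hU F x
  refine ⟨fun a b => ?_⟩
  have key : ∀ y : F.presheaf.stalk (x : X), y = 0 := by
    intro y
    obtain ⟨⟨m, c⟩, rfl⟩ := IsLocalizedModule.mk'_surjective
      (hU.primeIdealOf x).asIdeal.primeCompl (germₗ F x) y
    have hm : m = 0 := h.elim _ _
    simp only [Function.uncurry_apply_pair]
    rw [hm, IsLocalizedModule.mk'_zero]
  rw [key a, key b]

theorem eventually_isZero [CompactSpace X] (hq : ∀ n, (𝒩.N n).IsQuasicoherent)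
    (h : 𝒩.LocNoeth ∅) : ∃ n₀, ∀ n, n₀ ≤ n → IsZero (𝒩.N n) := by
  classical
  have h1 : ∀ U : X.affineOpens, ∃ n₀, ∀ n, n₀ ≤ n → Subsingleton Γ(𝒩.N n, U.1) := fun U =>
    OpFam.eventually_subsingleton_of_noeth_empty _ (h U.1 U.2)
  choose m hm using h1
  have hcov : (Set.univ : Set X) ⊆ ⋃ U : X.affineOpens, (U.1 : Set X) := by
    intro x _
    obtain ⟨_, ⟨U, hU, rfl⟩, hxU, -⟩ := X.isBasis_affineOpens.exists_subset_of_mem_open
      (Set.mem_univ x) isOpen_univ
    exact Set.mem_iUnion.mpr ⟨⟨U, hU⟩, hxU⟩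
  obtain ⟨T, hT⟩ := isCompact_univ.elim_finite_subcover (fun U : X.affineOpens => (U.1 : Set X))
    (fun U => U.1.2) hcov
  refine ⟨T.sup m, fun n hn => ?_⟩
  rw [isZero_iff_stalk_subsingleton]
  intro x
  obtain ⟨U, hUT, hxU⟩ : ∃ U ∈ T, x ∈ (U.1 : Set X) := by
    have := hT (Set.mem_univ x)
    simpa using this
  haveI := hq n
  have hs : Subsingleton Γ(𝒩.N n, U.1) := hm U n ((Finset.le_sup hUT).trans hn)
  exact stalk_subsingleton_of_sections U.2 (𝒩.N n) hs ⟨x, hxU⟩

/-- the cohomology of the images -/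
noncomputable def imgCohFam (A : Type u) [CommRing A] [X.Over (Spec (CommRingCat.of A))] (t : ι)
    (p : ℕ) : OpFam.{u, v, u} A ι where
  N n := Coh.HH X (𝒩.img t n) p
  T i n := Canon.HHlin A (𝒩.imgMap t i n) p

end ShFam

/-- **Finiteness of the cohomology of a graded family.** -/
theorem noeth_cohFam (A : Type u) [CommRing A] [IsNoetherianRing A]
    [X.Over (Spec (CommRingCat.of A))] [IsProper (X ↘ Spec (CommRingCat.of A))] (s : Finset ι) :
    ∀ 𝒩 : ShFam X ι, (∀ n, Coh.IsCoh (𝒩.N n)) → 𝒩.LocNoeth ↑s →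
      ∀ p, (𝒩.cohFam A p).Noeth ↑s := by
  classical
  haveI : CompactSpace X :=
    QuasiCompact.compactSpace_of_compactSpace (X ↘ Spec (CommRingCat.of A))
  haveI : IsLocallyNoetherian X :=
    LocallyOfFiniteType.isLocallyNoetherian (X ↘ Spec (CommRingCat.of A))
  have hnoeth : ∀ (F : X.Modules), Coh.IsCoh F → ∀ p, IsNoetherian A (Coh.HH X F p) := by
    intro F hF p
    haveI : Module.Finite A (Coh.HH X F p) := Groth.Agent.S0002.result A X F hF p
    exact isNoetherian_of_isNoetherianRing_of_finite A _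
  induction s using Finset.induction_on with
  | empty =>
    intro 𝒩 hcoh hloc p
    rw [Finset.coe_empty] at hloc ⊢
    obtain ⟨n₀, hn₀⟩ := 𝒩.eventually_isZero (fun n => (hcoh n).1) hloc
    haveI : ∀ n, IsNoetherian A ((𝒩.cohFam A p).N n) := fun n => hnoeth _ (hcoh n) p
    exact OpFam.noeth_of_eventually_zero _ ∅ n₀
      (fun n hn => subsingleton_HH_of_isZero (hn₀ n hn) p)
  | insert t s hts ih =>
    intro 𝒩 hcoh hloc p
    rw [Finset.coe_insert] at hloc ⊢
    have hK := ih (𝒩.ker t)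
      (fun n => Groth.Agent.Lib.Helper45.GraphTrick.isCoh_kernel _ (hcoh n) (hcoh (n + 1)).1)
      (𝒩.locNoeth_ker hloc) (p + 1)
    have hC := ih (𝒩.coker t)
      (fun n => Groth.Agent.Lib.Helper45.GraphTrick.isCoh_cokernel _ (hcoh n).1 (hcoh (n + 1)))
      (𝒩.locNoeth_coker (fun n => (hcoh n).1) hloc) p
    haveI : IsNoetherian A ((𝒩.cohFam A p).N 0) := hnoeth _ (hcoh 0) p
    refine OpFam.noeth_of_two_step (𝒩.cohFam A p) (𝒩.imgCohFam A t p) ((𝒩.ker t).cohFam A (p + 1))
      ((𝒩.coker t).cohFam A p)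
      (fun n => Canon.HHlin A (Abelian.factorThruImage (𝒩.T t n)) p)
      (fun n => Canon.HHlin A (Abelian.image.ι (𝒩.T t n)) p)
      (fun n => Canon.HHlin A (cokernel.π (𝒩.T t n)) p)
      (fun n => deltaLin A (kerImComplex_shortExact (𝒩.T t n)) p)
      ?_ ?_ ?_ ?_ ?_ ?_ ?_ hK hC
    · intro n x
      change Canon.HHlin A (Abelian.image.ι (𝒩.T t n)) p
        (Canon.HHlin A (Abelian.factorThruImage (𝒩.T t n)) p x) = Canon.HHlin A (𝒩.T t n) p x
      rw [← LinearMap.comp_apply, ← HHlin_comp, Abelian.image.fac]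
    · intro n
      exact range_eq_ker A (kerImComplex_shortExact (𝒩.T t n)) p
    · intro n
      exact range_f_eq_ker_g A (𝒩.imgCokerComplex_shortExact t n) p
    · intro i _ n m
      change Canon.HHlin A (Abelian.image.ι (𝒩.T t (n + 1))) p
        (Canon.HHlin A (𝒩.imgMap t i n) p m) =
        Canon.HHlin A (𝒩.T i (n + 1)) p (Canon.HHlin A (Abelian.image.ι (𝒩.T t n)) p m)
      rw [← LinearMap.comp_apply, ← LinearMap.comp_apply, ← HHlin_comp, ← HHlin_comp, 𝒩.imgMap_ι]
    · intro i _ n x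
      change Canon.HHlin A (cokernel.π (𝒩.T t (n + 1))) p (Canon.HHlin A (𝒩.T i (n + 1)) p x) =
        Canon.HHlin A (𝒩.cokerMap t i n) p (Canon.HHlin A (cokernel.π (𝒩.T t n)) p x)
      rw [← LinearMap.comp_apply, ← LinearMap.comp_apply, ← HHlin_comp, ← HHlin_comp,
        𝒩.π_cokerMap]
    · intro i _ n m
      exact deltaLin_naturality A (kerImComplex_shortExact (𝒩.T t n))
        (kerImComplex_shortExact (𝒩.T t (n + 1))) (𝒩.kerImHom t i n) p m
    · intro i _ n x
      change Canon.HHlin A (𝒩.T i (n + 1)) p (Canon.HHlin A (𝒩.T t n) p x) =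
        Canon.HHlin A (𝒩.T t (n + 1)) p (Canon.HHlin A (𝒩.T i n) p x)
      rw [← LinearMap.comp_apply, ← LinearMap.comp_apply, ← HHlin_comp, ← HHlin_comp,
        𝒩.comm t i n]

end Groth.Agent.Lib.Helper88.FormalFn
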