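import Mathlib
import Groth.Agent.Lib.Helper88.FormalFn.OpFam

/-!
# The algebraic input/output of the theorem on formal functions (helper88)

`FFData A I f` packages what the geometry supplies for a proper `X / A`, coherent `F`, `I = (f i)`
and a degree `p`:

* `H = H^p(X, F)`, `H' = H^{p+1}(X, F)`,
* `NF.N n = H^p(X, I^n F)`, `NF'.N n = H^{p+1}(X, I^n F)` with operators `T i = H(f_i)`,
* `P n = H^p(X, F / I^n F)`,
* the long exact sequence `NF.N n → H → P n → NF'.N n → H'`,
* the transition maps and their compatibilities,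
* the finiteness: `NF`, `NF'` satisfy the ascending chain condition on stable graded families
  (i.e. `⊕_n H^p(X, I^n F)` is a Noetherian graded module over `A[T_i]`).

The three conclusions (`EGA III 4.1.5`) are stated at the end as `Prop`s `C1`, `C2`, `C3`.
-/

set_option autoImplicit false
universe u v

namespace Groth.Agent.Lib.Helper88.FormalFn

/-- The algebraic data extracted from the geometry. -/
structure FFData (A : Type u) [CommRing A] (I : Ideal A) {ι : Type v} (f : ι → A) where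
  /-- `H^p(X, F)` -/
  H : Type u
  /-- `H^{p+1}(X, F)` -/
  H' : Type u
  [grpH : AddCommGroup H]
  [modH : Module A H]
  [grpH' : AddCommGroup H']
  [modH' : Module A H']
  /-- `H^p(X, I^n F)` -/
  NF : OpFam.{u, v, u} A ι
  /-- `H^{p+1}(X, I^n F)` -/
  NF' : OpFam.{u, v, u} A ι
  /-- `H^p(X, F / I^n F)` -/
  P : ℕ → Type u
  [grpP : ∀ n, AddCommGroup (P n)]
  [modP : ∀ n, Module A (P n)]
  /-- induced by `I^n F ⊆ F` -/
  a : ∀ n, NF.N n →ₗ[A] H
  /-- induced by `F → F / I^n F` -/
  b : ∀ n, H →ₗ[A] P n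
  /-- the connecting map -/
  δ : ∀ n, P n →ₗ[A] NF'.N n
  /-- induced by `I^n F ⊆ F` -/
  a' : ∀ n, NF'.N n →ₗ[A] H'
  exact_H : ∀ n, LinearMap.range (a n) = LinearMap.ker (b n)
  exact_P : ∀ n, LinearMap.range (b n) = LinearMap.ker (δ n)
  exact_N' : ∀ n, LinearMap.range (δ n) = LinearMap.ker (a' n)
  a_T : ∀ i n (x : NF.N n), a (n + 1) (NF.T i n x) = f i • a n x
  a'_T : ∀ i n (x : NF'.N n), a' (n + 1) (NF'.T i n x) = f i • a' n x
  /-- induced by `F / I^(n+1) F → F / I^n F` -/
  τ : ∀ n, P (n + 1) →ₗ[A] P n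
  τ_b : ∀ n (x : H), τ n (b (n + 1) x) = b n x
  /-- induced by `I^(n+1) F ⊆ I^n F` -/
  j' : ∀ n, NF'.N (n + 1) →ₗ[A] NF'.N n
  j'_T : ∀ i n (x : NF'.N n), j' n (NF'.T i n x) = f i • x
  δ_τ : ∀ n (y : P (n + 1)), δ n (τ n y) = j' n (δ (n + 1) y)
  killed : ∀ n, ∀ r ∈ I ^ n, ∀ y : P n, r • y = 0
  noeth : NF.Noeth Set.univ
  noeth' : NF'.Noeth Set.univ

attribute [instance] FFData.grpH FFData.modH FFData.grpH' FFData.modH' FFData.grpP FFData.modP

namespace FFData

variable {A : Type u} [CommRing A] {I : Ideal A} {ι : Type v} {f : ι → A} (D : FFData A I f)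

/-- the iterated transition map `P (n + j) → P n` -/
def τadd (n : ℕ) : ∀ j, D.P (n + j) →ₗ[A] D.P n
  | 0 => LinearMap.id
  | j + 1 => (τadd n j).comp (D.τ (n + j))

@[simp] theorem τadd_zero (n : ℕ) (y : D.P n) : D.τadd n 0 y = y := rfl

theorem τadd_succ (n j : ℕ) (y : D.P (n + (j + 1))) :
    D.τadd n (j + 1) y = D.τadd n j (D.τ (n + j) y) := rfl

theorem τadd_b (n j : ℕ) (x : D.H) : D.τadd n j (D.b (n + j) x) = D.b n x := by
  induction j with
  | zero => rfl
  | succ j ih =>
    rw [τadd_succ]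
    have h : D.τ (n + j) (D.b (n + (j + 1)) x) = D.b (n + j) x := D.τ_b (n + j) x
    rw [h, ih]

/-- the inverse limit of the `P n` -/
def limP : AddSubgroup (∀ n, D.P n) where
  carrier := {y | ∀ n, D.τ n (y (n + 1)) = y n}
  zero_mem' := by intro n; simp
  add_mem' := by intro x y hx hy n; simp [hx n, hy n]
  neg_mem' := by intro x hx n; simp [hx n]

theorem pow_smul_top_le_ker (n : ℕ) :
    (I ^ n • (⊤ : Submodule A D.H)) ≤ LinearMap.ker (D.b n) := by
  rw [Submodule.smul_le]
  intro r hr x _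
  rw [LinearMap.mem_ker, map_smul]
  exact D.killed n r hr _

/-- `H / I^n H → P n` -/
def bbar (n : ℕ) : (D.H ⧸ (I ^ n • (⊤ : Submodule A D.H))) →ₗ[A] D.P n :=
  Submodule.liftQ _ (D.b n) (D.pow_smul_top_le_ker n)

@[simp] theorem bbar_mk (n : ℕ) (x : D.H) : D.bbar n (Submodule.Quotient.mk x) = D.b n x := rfl

theorem τ_bbar (x : AdicCompletion I D.H) (n : ℕ) :
    D.τ n (D.bbar (n + 1) (x.val (n + 1))) = D.bbar n (x.val n) := by
  obtain ⟨h, hh⟩ := Submodule.Quotient.mk_surjective _ (x.val (n + 1))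
  have h2 : x.val n = Submodule.Quotient.mk h := by
    have := x.property (Nat.le_succ n)
    rw [← this, ← hh]
    rfl
  rw [← hh, h2, bbar_mk, bbar_mk, D.τ_b]

/-- the comparison map from the completion of `H` to the limit of the `P n` -/
def Φ : AdicCompletion I D.H →+ D.limP where
  toFun x := ⟨fun n => D.bbar n (x.val n), fun n => D.τ_bbar x n⟩
  map_zero' := by
    apply Subtype.ext
    funext n
    simp
  map_add' x y := by
    apply Subtype.ext
    funext n
    simp

/-- the canonical map from `H` to the limit of the `P n` -/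
def toLimP : D.H →+ D.limP where
  toFun x := ⟨fun n => D.b n x, fun n => D.τ_b n x⟩
  map_zero' := by
    apply Subtype.ext
    funext n
    simp
  map_add' x y := by
    apply Subtype.ext
    funext n
    simp

theorem Φ_of (x : D.H) : D.Φ (AdicCompletion.of I D.H x) = D.toLimP x := by
  apply Subtype.ext
  funext n
  rfl

/-- kernels of `H → P n` are adically small -/
def C1 : Prop :=
  ∃ c : ℕ, ∀ n : ℕ, c ≤ n → LinearMap.ker (D.b n) ≤ I ^ (n - c) • (⊤ : Submodule A D.H)

/-- uniform Mittag-Leffler -/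
def C2 : Prop :=
  ∃ c : ℕ, ∀ n j : ℕ, c ≤ j → LinearMap.range (D.τadd n j) = LinearMap.range (D.b n)

/-- the comparison map is bijective -/
def C3 : Prop := Function.Bijective D.Φ

end FFData

end Groth.Agent.Lib.Helper88.FormalFn
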