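import Mathlib
import Groth.Prelude.Def_Formal
import Groth.Agent.Lib.Helper88.FormalFn.ShFam

/-!
# The family `I^n M` of an `O_X`-module `M` (helper88)

`powMod I n M = ker (M ⟶ M / I^n M)`, with the inclusions `powι`, the operators
`powT a : I^n M ⟶ I^(n+1) M` (`a ∈ I`) and the inclusions `powIncl : I^(n+1) M ⟶ I^n M`.
-/

set_option autoImplicit false
set_option linter.style.haveILetI false
universe u v
open AlgebraicGeometry CategoryTheory Limits Opposite TopologicalSpace Abelian

namespace Groth.Agent.Lib.Helper88.FormalFn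

variable {A : Type u} [CommRing A] {X : Scheme.{u}} [X.Over (Spec (CommRingCat.of A))]

section Smul

theorem smulModΓ_naturality {M N : X.Modules} (g : M ⟶ N) (r : Coh.Γtop X) :
    Formal.smulModΓ M r ≫ g = g ≫ Formal.smulModΓ N r := by
  apply SheafOfModules.hom_ext
  apply PresheafOfModules.hom_ext
  intro U
  ext m
  change g.val.app U (Coh.resTop X U r • m) = Coh.resTop X U r • g.val.app U m
  exact (g.val.app U).hom.map_smul _ _

theorem smulModΓ_mul (M : X.Modules) (r s : Coh.Γtop X) :
    Formal.smulModΓ M (r * s) = Formal.smulModΓ M s ≫ Formal.smulModΓ M r := by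
  apply SheafOfModules.hom_ext
  apply PresheafOfModules.hom_ext
  intro U
  ext m
  change Coh.resTop X U (r * s) • m = Coh.resTop X U r • (Coh.resTop X U s • m)
  rw [map_mul, mul_smul]

theorem smulModΓ_add (M : X.Modules) (r s : Coh.Γtop X) :
    Formal.smulModΓ M (r + s) = Formal.smulModΓ M r + Formal.smulModΓ M s := by
  apply SheafOfModules.hom_ext
  apply PresheafOfModules.hom_ext
  intro U
  ext m
  change Coh.resTop X U (r + s) • m = Coh.resTop X U r • m + Coh.resTop X U s • m
  rw [map_add, add_smul]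

theorem smulModΓ_zero (M : X.Modules) : Formal.smulModΓ M 0 = 0 := by
  apply SheafOfModules.hom_ext
  apply PresheafOfModules.hom_ext
  intro U
  ext m
  change Coh.resTop X U 0 • m = 0
  rw [map_zero, zero_smul]

theorem smulMod_naturality {M N : X.Modules} (g : M ⟶ N) (a : A) :
    Formal.smulMod A M a ≫ g = g ≫ Formal.smulMod A N a := smulModΓ_naturality g _

theorem smulMod_mul (M : X.Modules) (a b : A) :
    Formal.smulMod A M (a * b) = Formal.smulMod A M a ≫ Formal.smulMod A M b := by
  unfold Formal.smulMod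
  rw [mul_comm a b, map_mul, smulModΓ_mul]

theorem smulMod_add (M : X.Modules) (a b : A) :
    Formal.smulMod A M (a + b) = Formal.smulMod A M a + Formal.smulMod A M b := by
  unfold Formal.smulMod
  rw [map_add, smulModΓ_add]

theorem smulMod_zero (M : X.Modules) : Formal.smulMod A M 0 = 0 := by
  unfold Formal.smulMod
  rw [map_zero, smulModΓ_zero]

theorem ι_smulFamily (J : Ideal A) (F : X.Modules) (a : J) :
    Sigma.ι (fun _ : J => F) a ≫ Formal.smulFamily J F = Formal.smulMod A F (a : A) := by
  unfold Formal.smulFamily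
  exact Sigma.ι_desc _ _

theorem smulMod_comp_π (J : Ideal A) (M : X.Modules) {a : A} (ha : a ∈ J) :
    Formal.smulMod A M a ≫ cokernel.π (Formal.smulFamily J M) = 0 := by
  rw [← ι_smulFamily J M ⟨a, ha⟩, Category.assoc, cokernel.condition, comp_zero]

/-- the action of `a : A` on cohomology is induced by `smulMod a` -/
theorem HHlin_smulMod (M : X.Modules) (a : A) (p : ℕ) (x : Coh.HH X M p) :
    Canon.HHlin A (Formal.smulMod A M a) p x = a • x := rfl

end Smul

section Pow

variable (I : Ideal A) (M : X.Modules)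

/-- `I^n M` -/
noncomputable def powMod (n : ℕ) : X.Modules := kernel (Formal.modPowπ I n M)

/-- `I^n M ⟶ M` -/
noncomputable def powι (n : ℕ) : powMod I M n ⟶ M := kernel.ι _

instance (n : ℕ) : Mono (powι I M n) := inferInstanceAs (Mono (kernel.ι _))

instance (n : ℕ) : Epi (Formal.modPowπ I n M) := inferInstanceAs (Epi (cokernel.π _))

@[reassoc (attr := simp)]
theorem powι_π (n : ℕ) : powι I M n ≫ Formal.modPowπ I n M = 0 := kernel.condition _

/-- `0 ⟶ I^n M ⟶ M ⟶ M / I^n M ⟶ 0` -/
noncomputable def powSES (n : ℕ) : ShortComplex X.Modules :=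
  ShortComplex.mk (powι I M n) (Formal.modPowπ I n M) (powι_π I M n)

theorem powSES_shortExact (n : ℕ) : (powSES I M n).ShortExact := by
  have hex : (powSES I M n).Exact :=
    ShortComplex.exact_of_f_is_kernel _ (kernelIsKernel (Formal.modPowπ I n M))
  exact ShortComplex.ShortExact.mk' hex (inferInstanceAs (Mono (powι I M n)))
    (inferInstanceAs (Epi (Formal.modPowπ I n M)))

/-- multiplication by `c ∈ I^n`, as a map `M ⟶ I^n M` -/
noncomputable def powE (n : ℕ) (c : A) (hc : c ∈ I ^ n) : M ⟶ powMod I M n :=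
  kernel.lift _ (Formal.smulMod A M c) (smulMod_comp_π (I ^ n) M hc)

@[reassoc (attr := simp)]
theorem powE_ι (n : ℕ) (c : A) (hc : c ∈ I ^ n) :
    powE I M n c hc ≫ powι I M n = Formal.smulMod A M c := kernel.lift_ι _ _ _

/-- the canonical epimorphism `∐_{c ∈ I^n} M ⟶ I^n M` -/
noncomputable def powCover (n : ℕ) : (∐ fun _ : ↥(I ^ n) => M) ⟶ powMod I M n :=
  Abelian.factorThruImage (Formal.smulFamily (I ^ n) M)

instance (n : ℕ) : Epi (powCover I M n) :=
  inferInstanceAs (Epi (Abelian.factorThruImage _))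

theorem ι_powCover (n : ℕ) (c : ↥(I ^ n)) :
    Sigma.ι (fun _ : ↥(I ^ n) => M) c ≫ powCover I M n = powE I M n c c.2 := by
  rw [← cancel_mono (powι I M n), Category.assoc, powE_ι]
  have : powCover I M n ≫ powι I M n = Formal.smulFamily (I ^ n) M :=
    Abelian.image.fac (Formal.smulFamily (I ^ n) M)
  rw [this, ι_smulFamily]

/-- a morphism out of `I^n M` vanishes as soon as it vanishes on all `c M`, `c ∈ I^n` -/
theorem eq_zero_of_powE_comp {T : X.Modules} (n : ℕ) (g : powMod I M n ⟶ T)
    (h : ∀ (c : A) (hc : c ∈ I ^ n), powE I M n c hc ≫ g = 0) : g = 0 := by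
  rw [← cancel_epi (powCover I M n), comp_zero]
  apply Sigma.hom_ext
  intro c
  rw [← Category.assoc, ι_powCover, comp_zero]
  exact h c c.2

/-- multiplication by `a ∈ I`, as a map `I^n M ⟶ I^(n+1) M` -/
noncomputable def powT (a : A) (ha : a ∈ I) (n : ℕ) : powMod I M n ⟶ powMod I M (n + 1) :=
  kernel.lift _ (powι I M n ≫ Formal.smulMod A M a) (by
    rw [← cancel_epi (powCover I M n), comp_zero]
    apply Sigma.hom_ext
    intro c
    rw [← Category.assoc, ι_powCover, comp_zero, ← Category.assoc, ← Category.assoc, powE_ι,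
      ← smulMod_mul]
    exact smulMod_comp_π (I ^ (n + 1)) M (by
      rw [pow_succ]
      exact Ideal.mul_mem_mul c.2 ha))

@[reassoc (attr := simp)]
theorem powT_ι (a : A) (ha : a ∈ I) (n : ℕ) :
    powT I M a ha n ≫ powι I M (n + 1) = powι I M n ≫ Formal.smulMod A M a :=
  kernel.lift_ι _ _ _

theorem powE_powT (a : A) (ha : a ∈ I) (n : ℕ) (c : A) (hc : c ∈ I ^ n) :
    powE I M n c hc ≫ powT I M a ha n =
      powE I M (n + 1) (c * a) (by rw [pow_succ]; exact Ideal.mul_mem_mul hc ha) := by
  rw [← cancel_mono (powι I M (n + 1)), Category.assoc, powT_ι, powE_ι_assoc, powE_ι, smulMod_mul]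

theorem powE_add (n : ℕ) (c c' : A) (hc : c ∈ I ^ n) (hc' : c' ∈ I ^ n) :
    powE I M n (c + c') (Ideal.add_mem _ hc hc') = powE I M n c hc + powE I M n c' hc' := by
  rw [← cancel_mono (powι I M n), Preadditive.add_comp, powE_ι, powE_ι, powE_ι, smulMod_add]

/-- the inclusion `I^(n+1) M ⟶ I^n M` -/
noncomputable def powIncl (n : ℕ) : powMod I M (n + 1) ⟶ powMod I M n :=
  kernel.lift _ (powι I M (n + 1)) (by
    rw [← Formal.modPowπ_trans I n M, powι_π_assoc, zero_comp])

@[reassoc (attr := simp)]
theorem powIncl_ι (n : ℕ) : powIncl I M n ≫ powι I M n = powι I M (n + 1) := kernel.lift_ι _ _ _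

theorem powT_powIncl (a : A) (ha : a ∈ I) (n : ℕ) :
    powT I M a ha n ≫ powIncl I M n = Formal.smulMod A (powMod I M n) a := by
  rw [← cancel_mono (powι I M n), Category.assoc, powIncl_ι, powT_ι, smulMod_naturality]

/-- the morphism of short exact sequences from level `n + 1` to level `n` -/
noncomputable def powSESHom (n : ℕ) : powSES I M (n + 1) ⟶ powSES I M n where
  τ₁ := powIncl I M n
  τ₂ := 𝟙 M
  τ₃ := Formal.modPowTrans I n M
  comm₁₂ := by
    change powIncl I M n ≫ powι I M n = powι I M (n + 1) ≫ 𝟙 M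
    rw [powIncl_ι, Category.comp_id]
  comm₂₃ := by
    change 𝟙 M ≫ Formal.modPowπ I n M = Formal.modPowπ I (n + 1) M ≫ Formal.modPowTrans I n M
    rw [Category.id_comp, Formal.modPowπ_trans]

/-- `M / I^n M` is killed by `I^n` -/
theorem smulMod_modPow_eq_zero (n : ℕ) {a : A} (ha : a ∈ I ^ n) :
    Formal.smulMod A (Formal.modPow I n M) a = 0 := by
  rw [← cancel_epi (Formal.modPowπ I n M), comp_zero, ← smulMod_naturality]
  exact smulMod_comp_π (I ^ n) M ha

variable {ι : Type v} (f : ι → A) (hf : ∀ i, f i ∈ I)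

/-- the family `I^n M` with operators `f i` -/
noncomputable def powFam : ShFam X ι where
  N := powMod I M
  T i n := powT I M (f i) (hf i) n
  comm i j n := by
    rw [← cancel_mono (powι I M (n + 1 + 1)), Category.assoc, Category.assoc, powT_ι, powT_ι,
      powT_ι_assoc, powT_ι_assoc, ← smulMod_mul, ← smulMod_mul, mul_comm]

end Pow

end Groth.Agent.Lib.Helper88.FormalFn
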