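import Mathlib
import Groth.Agent.Lib.Helper88.FormalFn.PowFam
import Groth.Agent.Lib.Helper88.FormalFn.CohNoeth
import Groth.Agent.Lib.Helper49.FiniteTypeAffine

/-!
# `⊕_n H^p(X, I^n M)` is a Noetherian graded module (helper88)
-/

set_option autoImplicit false
set_option linter.style.haveILetI false
universe u
open AlgebraicGeometry CategoryTheory Limits Opposite TopologicalSpace Abelian

namespace Groth.Agent.Lib.Helper88.FormalFn

open Groth.Agent.Lib.Helper45

attribute [local instance] CategoryTheory.Abelian.hasFiniteBiproducts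

variable {A : Type u} [CommRing A] {X : Scheme.{u}} [X.Over (Spec (CommRingCat.of A))]
variable (I : Ideal A) (M : X.Modules)

theorem isQuasicoherent_modPow (n : ℕ) (hM : M.IsQuasicoherent) :
    (Formal.modPow I n M).IsQuasicoherent := by
  refine Groth.Agent.Lib.Helper49.isQuasicoherent_cokernel _ ?_ hM
  exact Groth.Agent.Lib.Helper49.isQuasicoherent_colimit _ (fun _ => hM)

theorem isQuasicoherent_powMod (n : ℕ) (hM : M.IsQuasicoherent) :
    (powMod I M n).IsQuasicoherent :=
  Groth.Agent.Lib.Helper49.isQuasicoherent_kernel _ hM (isQuasicoherent_modPow I M n hM)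

theorem isCoh_powMod [IsLocallyNoetherian X] (n : ℕ) (hM : Coh.IsCoh M) :
    Coh.IsCoh (powMod I M n) :=
  Groth.Agent.Lib.Helper45.GraphTrick.isCoh_kernel _ hM (isQuasicoherent_modPow I M n hM.1)

theorem powE_zero (n : ℕ) : powE I M n 0 (Ideal.zero_mem _) = 0 := by
  rw [← cancel_mono (powι I M n), powE_ι, smulMod_zero, zero_comp]

theorem powE_mul (n : ℕ) (r c : A) (hc : c ∈ I ^ n) :
    powE I M n (r * c) (Ideal.mul_mem_left _ r hc) = Formal.smulMod A M r ≫ powE I M n c hc := by
  rw [← cancel_mono (powι I M n), Category.assoc, powE_ι, powE_ι, smulMod_mul]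

/-- the elements `c ∈ I^n` whose multiplication map `M ⟶ I^n M` is killed by `g` -/
def killIdeal {T : X.Modules} (n : ℕ) (g : powMod I M n ⟶ T) : Ideal A where
  carrier := {c | ∃ hc : c ∈ I ^ n, powE I M n c hc ≫ g = 0}
  zero_mem' := ⟨Ideal.zero_mem _, by rw [powE_zero, zero_comp]⟩
  add_mem' := by
    rintro a b ⟨ha, ha'⟩ ⟨hb, hb'⟩
    exact ⟨Ideal.add_mem _ ha hb, by rw [powE_add I M n a b ha hb, Preadditive.add_comp, ha', hb',
      add_zero]⟩
  smul_mem' := by
    rintro r c ⟨hc, hc'⟩
    refine ⟨Ideal.mul_mem_left _ r hc, ?_⟩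
    change powE I M n (r * c) _ ≫ g = 0
    rw [powE_mul I M n r c hc, Category.assoc, hc', comp_zero]

variable {ι : Type u} [Fintype ι] (f : ι → A) (hf : ∀ i, f i ∈ I)
  (hspan : Ideal.span (Set.range f) = I)

omit [Fintype ι] in
include hspan in
theorem eq_zero_of_powT_comp {T : X.Modules} (n : ℕ) (g : powMod I M (n + 1) ⟶ T)
    (h : ∀ i, powT I M (f i) (hf i) n ≫ g = 0) : g = 0 := by
  apply eq_zero_of_powE_comp
  suffices hle : I ^ (n + 1) ≤ killIdeal I M (n + 1) g by
    intro c hc
    obtain ⟨_, h'⟩ := hle hc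
    exact h'
  rw [pow_succ, Ideal.mul_le]
  intro a ha b hb
  rw [← hspan] at hb
  induction hb using Submodule.span_induction with
  | mem b hb =>
    obtain ⟨i, rfl⟩ := hb
    refine ⟨by rw [pow_succ]; exact Ideal.mul_mem_mul ha (hf i), ?_⟩
    rw [← powE_powT I M (f i) (hf i) n a ha, Category.assoc, h i, comp_zero]
  | zero =>
    rw [mul_zero]
    exact Ideal.zero_mem _
  | add x y _ _ hx hy =>
    rw [mul_add]
    exact Ideal.add_mem _ hx hy
  | smul r x _ hx =>
    rw [smul_eq_mul, mul_left_comm]
    exact Ideal.mul_mem_left _ r hx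

/-- `⨁_i I^n M ⟶ I^(n+1) M` -/
noncomputable def powSum (n : ℕ) : (⨁ fun _ : ι => powMod I M n) ⟶ powMod I M (n + 1) :=
  biproduct.desc fun i => powT I M (f i) (hf i) n

include hspan in
theorem epi_powSum (n : ℕ) : Epi (powSum I M f hf n) := by
  refine Preadditive.epi_of_cancel_zero _ fun {T} g hg => ?_
  apply eq_zero_of_powT_comp I M f hf hspan n g
  intro i
  have := congrArg (fun k => biproduct.ι (fun _ : ι => powMod I M n) i ≫ k) hg
  simp only [comp_zero] at this
  rw [← Category.assoc] at this
  unfold powSum at this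
  rw [biproduct.ι_desc] at this
  exact this

theorem isQuasicoherent_biproduct (G : ι → X.Modules) (hG : ∀ i, (G i).IsQuasicoherent) :
    (⨁ G).IsQuasicoherent := by
  have h : (∐ G).IsQuasicoherent := Groth.Agent.Lib.Helper49.isQuasicoherent_colimit _ (fun i => hG i.as)
  exact Groth.Agent.Lib.Helper49.isQuasicoherent_of_iso (biproduct.isoCoproduct G).symm h

include hspan in
/-- sections of `I^(n+1) M` over an affine open are sums of `f i •` sections of `I^n M` -/
theorem sections_powMod_succ (hM : M.IsQuasicoherent) (n : ℕ) {U : X.Opens} (hU : IsAffineOpen U)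
    (y : Γ(powMod I M (n + 1), U)) :
    y ∈ ⨆ i ∈ (Finset.univ : Finset ι),
      LinearMap.range (appₗ (powT I M (f i) (hf i) n) U) := by
  haveI := epi_powSum I M f hf hspan n
  haveI : (⨁ fun _ : ι => powMod I M n).IsQuasicoherent :=
    isQuasicoherent_biproduct _ (fun _ => isQuasicoherent_powMod I M n hM)
  haveI := isQuasicoherent_powMod I M (n + 1) hM
  obtain ⟨σ, rfl⟩ := Groth.Agent.Lib.Helper18.EpiAffine.app_surjective_of_epi
    (powSum I M f hf n) hU y
  let ev : ((⨁ fun _ : ι => powMod I M n) ⟶ powMod I M (n + 1)) →+ Γ(powMod I M (n + 1), U) :=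
    AddMonoidHom.mk' (fun φ => (Scheme.Modules.Hom.app φ U) σ) (by
      intro a b
      simp)
  have htot : powSum I M f hf n = ∑ j : ι, biproduct.π (fun _ : ι => powMod I M n) j ≫
      powT I M (f j) (hf j) n := by
    have h0 : ∑ j : ι, biproduct.π (fun _ : ι => powMod I M n) j ≫
        biproduct.ι (fun _ : ι => powMod I M n) j = 𝟙 _ := by
      classical
      apply biproduct.hom_ext'
      intro i
      rw [Preadditive.comp_sum, Category.comp_id, Finset.sum_eq_single i]
      · rw [← Category.assoc, biproduct.ι_π_self, Category.id_comp]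
      · intro j _ hji
        rw [← Category.assoc, biproduct.ι_π_ne _ (Ne.symm hji), zero_comp]
      · intro hi
        exact absurd (Finset.mem_univ i) hi
    have h1 := congrArg (fun k => k ≫ powSum I M f hf n) h0
    simp only [Category.id_comp, Preadditive.sum_comp, Category.assoc] at h1
    rw [← h1]
    refine Finset.sum_congr rfl fun j _ => ?_
    unfold powSum
    rw [biproduct.ι_desc]
  have h2 : (Scheme.Modules.Hom.app (powSum I M f hf n) U) σ =
      ∑ j : ι, ev (biproduct.π (fun _ : ι => powMod I M n) j ≫ powT I M (f j) (hf j) n) := by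
    rw [← map_sum, ← htot]
    rfl
  rw [h2]
  refine Submodule.sum_mem _ fun j hj => ?_
  refine Submodule.mem_iSup_of_mem j (Submodule.mem_iSup_of_mem hj ?_)
  exact ⟨(Scheme.Modules.Hom.app (biproduct.π (fun _ : ι => powMod I M n) j) U) σ, rfl⟩

include hspan in
theorem locNoeth_powFam [IsLocallyNoetherian X] (hM : Coh.IsCoh M) :
    (powFam I M f hf).LocNoeth ↑(Finset.univ : Finset ι) := by
  intro U hU
  haveI : IsNoetherianRing Γ(X, U) := IsLocallyNoetherian.component_noetherian ⟨U, hU⟩
  haveI := hM.1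
  haveI : Module.Finite Γ(X, U) Γ(M, U) :=
    Groth.Agent.Lib.Helper49.finite_sections_of_isFiniteType M hM.2 hU
  haveI : IsNoetherian Γ(X, U) Γ(M, U) := isNoetherian_of_isNoetherianRing_of_finite _ _
  haveI : IsNoetherian Γ(X, U) (((powFam I M f hf).secFam U).N 0) :=
    isNoetherian_of_injective (appₗ (powι I M 0) U) (app_injective_of_mono (powι I M 0) U)
  refine OpFam.noethAbove_of_generated _ Finset.univ ?_ ⊥ ?_
  · intro i _ j _ n x
    exact congrArg (fun φ => (Scheme.Modules.Hom.app φ U) x) ((powFam I M f hf).comm j i n)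
  · intro n
    rw [eq_top_iff]
    intro y _
    exact Submodule.mem_sup_right (sections_powMod_succ I M f hf hspan hM.1 n hU y)

include hspan in
/-- **`⊕_n H^p(X, I^n M)` is a Noetherian graded module over `A[T_i]`.** -/
theorem noeth_cohFam_pow [IsNoetherianRing A] [IsProper (X ↘ Spec (CommRingCat.of A))]
    (hM : Coh.IsCoh M) (p : ℕ) : ((powFam I M f hf).cohFam A p).Noeth Set.univ := by
  haveI : IsLocallyNoetherian X :=
    LocallyOfFiniteType.isLocallyNoetherian (X ↘ Spec (CommRingCat.of A))
  have h := noeth_cohFam A (Finset.univ : Finset ι) (powFam I M f hf)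
    (fun n => isCoh_powMod I M n hM) (locNoeth_powFam I M f hf hspan hM) p
  rwa [Finset.coe_univ] at h

end Groth.Agent.Lib.Helper88.FormalFn
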