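import Mathlib
import Groth.Agent.Lib.Helper88.FormalFn.Interface
import Groth.Agent.Lib.Helper88.FormalFn.PowNoeth

/-!
# The `FFData` of a coherent module on a proper scheme (helper88)
-/

set_option autoImplicit false
set_option linter.style.haveILetI false
universe u
open AlgebraicGeometry CategoryTheory Limits Opposite TopologicalSpace Abelian

namespace Groth.Agent.Lib.Helper88.FormalFn

open Groth.Agent.Lib.Helper1 Groth.Agent.Lib.Helper17.HHLinLES Groth.Agent.Lib.Helper67.HHLES

variable {A : Type u} [CommRing A] [IsNoetherianRing A] {X : Scheme.{u}}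
  [X.Over (Spec (CommRingCat.of A))] [IsProper (X ↘ Spec (CommRingCat.of A))]
variable (I : Ideal A) (M : X.Modules) (hM : Coh.IsCoh M)
variable {ι : Type u} [Fintype ι] (f : ι → A) (hf : ∀ i, f i ∈ I)
  (hspan : Ideal.span (Set.range f) = I)

/-- the algebraic data of the theorem on formal functions attached to `(X, M, I, p)` -/
noncomputable def ffData (p : ℕ) : FFData A I f where
  H := Coh.HH X M p
  H' := Coh.HH X M (p + 1)
  NF := (powFam I M f hf).cohFam A p
  NF' := (powFam I M f hf).cohFam A (p + 1)
  P n := Coh.HH X (Formal.modPow I n M) p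
  a n := Canon.HHlin A (powι I M n) p
  b n := Canon.HHlin A (Formal.modPowπ I n M) p
  δ n := deltaLin A (powSES_shortExact I M n) p
  a' n := Canon.HHlin A (powι I M n) (p + 1)
  exact_H n := range_f_eq_ker_g A (powSES_shortExact I M n) p
  exact_P n := range_eq_ker A (powSES_shortExact I M n) p
  exact_N' n := range_delta_eq_ker_f A (powSES_shortExact I M n) p
  a_T i n x := by
    change Canon.HHlin A (powι I M (n + 1)) p (Canon.HHlin A (powT I M (f i) (hf i) n) p x) =
      f i • Canon.HHlin A (powι I M n) p x
    rw [← HHlin_smulMod, ← LinearMap.comp_apply, ← LinearMap.comp_apply, ← HHlin_comp,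
      ← HHlin_comp, powT_ι]
  a'_T i n x := by
    change Canon.HHlin A (powι I M (n + 1)) (p + 1)
      (Canon.HHlin A (powT I M (f i) (hf i) n) (p + 1) x) =
      f i • Canon.HHlin A (powι I M n) (p + 1) x
    rw [← HHlin_smulMod, ← LinearMap.comp_apply, ← LinearMap.comp_apply, ← HHlin_comp,
      ← HHlin_comp, powT_ι]
  τ n := Canon.HHlin A (Formal.modPowTrans I n M) p
  τ_b n x := by
    change Canon.HHlin A (Formal.modPowTrans I n M) p
      (Canon.HHlin A (Formal.modPowπ I (n + 1) M) p x) = Canon.HHlin A (Formal.modPowπ I n M) p x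
    rw [← LinearMap.comp_apply, ← HHlin_comp, Formal.modPowπ_trans]
  j' n := Canon.HHlin A (powIncl I M n) (p + 1)
  j'_T i n x := by
    have key : ∀ y : Coh.HH X (powMod I M n) (p + 1), Canon.HHlin A (powIncl I M n) (p + 1)
        (Canon.HHlin A (powT I M (f i) (hf i) n) (p + 1) y) = f i • y := by
      intro y
      rw [← HHlin_smulMod, ← LinearMap.comp_apply, ← HHlin_comp, powT_powIncl]
    exact key x
  δ_τ n y := deltaLin_naturality A (powSES_shortExact I M (n + 1)) (powSES_shortExact I M n)
    (powSESHom I M n) p y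
  killed n r hr y := by
    have key : ∀ z : Coh.HH X (Formal.modPow I n M) p, r • z = 0 := by
      intro z
      rw [← HHlin_smulMod, smulMod_modPow_eq_zero I M n hr, HHlin_zero]
      rfl
    exact key y
  noeth := noeth_cohFam_pow I M f hf hspan hM p
  noeth' := noeth_cohFam_pow I M f hf hspan hM (p + 1)

end Groth.Agent.Lib.Helper88.FormalFn
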