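import Mathlib
import Groth.Agent.Lib.Helper88.FormalFn.FFGeom
import Groth.Agent.Lib.Helper91.FormalFnAlg
import Groth.Agent.Lib.Helper91.AdicAux

/-!
# The theorem on formal functions (helper88; algebra by helper91)
-/

set_option autoImplicit false
set_option linter.style.haveILetI false
universe u
open AlgebraicGeometry CategoryTheory Limits Opposite TopologicalSpace Abelian

namespace Groth.Agent.Lib.Helper88.FormalFn

open Groth.Agent.Lib.Helper1 Groth.Agent.Lib.Helper17.HHLinLES Groth.Agent.Lib.Helper67.HHLES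

variable {A : Type u} [CommRing A] [IsNoetherianRing A] {X : Scheme.{u}}
  [X.Over (Spec (CommRingCat.of A))] [IsProper (X ↘ Spec (CommRingCat.of A))]
variable (I : Ideal A) (M : X.Modules) (hM : Coh.IsCoh M)

section Tr

omit [IsNoetherianRing A] [IsProper (X ↘ Spec (CommRingCat.of A))]

/-- the canonical map `M / I^l M ⟶ M / I^m M` for `m ≤ l` -/
noncomputable def tr (m l : ℕ) (h : m ≤ l) : Formal.modPow I l M ⟶ Formal.modPow I m M :=
  cokernel.desc _ (Formal.modPowπ I m M)
    (Formal.smulFamily_π_of_le (Ideal.pow_le_pow_right h) M)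

@[reassoc (attr := simp)]
theorem π_tr (m l : ℕ) (h : m ≤ l) :
    Formal.modPowπ I l M ≫ tr I M m l h = Formal.modPowπ I m M :=
  cokernel.π_desc _ _ _

theorem eq_tr (m l : ℕ) (h : m ≤ l) (g : Formal.modPow I l M ⟶ Formal.modPow I m M)
    (hg : Formal.modPowπ I l M ≫ g = Formal.modPowπ I m M) : g = tr I M m l h := by
  rw [← cancel_epi (Formal.modPowπ I l M), hg, π_tr]

theorem π_completion_map (n k : ℕ) (h : n ≤ k) :
    (Formal.modPowπ I (k + 1) M : M ⟶ (Formal.completion I M).obj (op k)) ≫
      (Formal.completion I M).map (homOfLE h).op =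
      (Formal.modPowπ I (n + 1) M : M ⟶ (Formal.completion I M).obj (op n)) := by
  induction k, h using Nat.le_induction with
  | base =>
    have h0 : (Formal.completion I M).map (homOfLE (le_refl n)).op = 𝟙 _ := by
      rw [show (homOfLE (le_refl n)).op = 𝟙 (op n) from rfl]
      exact CategoryTheory.Functor.map_id _ _
    exact (congrArg (fun g => (Formal.modPowπ I (n + 1) M :
      M ⟶ (Formal.completion I M).obj (op n)) ≫ g) h0).trans (Category.comp_id _)
  | succ k h ih =>
    have e2 : (Formal.completion I M).map (homOfLE (Nat.le_succ k)).op =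
        Formal.modPowTrans I (k + 1) M := by
      unfold Formal.completion
      exact Functor.ofOpSequence_map_homOfLE_succ _ k
    have e3 : (Formal.modPowπ I (k + 1 + 1) M : M ⟶ (Formal.completion I M).obj (op (k + 1))) ≫
        (Formal.completion I M).map (homOfLE (Nat.le_succ k)).op =
        (Formal.modPowπ I (k + 1) M : M ⟶ (Formal.completion I M).obj (op k)) := by
      rw [e2]
      exact Formal.modPowπ_trans I (k + 1) M
    have e : (Formal.completion I M).map (homOfLE (h.trans (Nat.le_succ k))).op =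
        (Formal.completion I M).map (homOfLE (Nat.le_succ k)).op ≫
          (Formal.completion I M).map (homOfLE h).op := by
      rw [← Functor.map_comp]
      rfl
    calc (Formal.modPowπ I (k + 1 + 1) M : M ⟶ (Formal.completion I M).obj (op (k + 1))) ≫
          (Formal.completion I M).map (homOfLE (h.trans (Nat.le_succ k))).op
        = ((Formal.modPowπ I (k + 1 + 1) M : M ⟶ (Formal.completion I M).obj (op (k + 1))) ≫
            (Formal.completion I M).map (homOfLE (Nat.le_succ k)).op) ≫
            (Formal.completion I M).map (homOfLE h).op := by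
          rw [e]
          exact (Category.assoc _ _ _).symm
      _ = (Formal.modPowπ I (k + 1) M : M ⟶ (Formal.completion I M).obj (op k)) ≫
            (Formal.completion I M).map (homOfLE h).op :=
          congrArg (fun g => g ≫ (Formal.completion I M).map (homOfLE h).op) e3
      _ = _ := ih

theorem completion_map_eq_tr (n k : ℕ) (h : n ≤ k) :
    (Formal.completion I M).map (homOfLE h).op = tr I M (n + 1) (k + 1) (Nat.succ_le_succ h) :=
  eq_tr I M _ _ _ _ (π_completion_map I M n k h)

theorem range_HHlin_tr_congr (p m l l' : ℕ) (e : l = l') (h : m ≤ l) :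
    (LinearMap.range (Canon.HHlin A (tr I M m l h) p) : Set (Coh.HH X (Formal.modPow I m M) p)) =
      LinearMap.range (Canon.HHlin A (tr I M m l' (e ▸ h)) p) := by
  subst e
  rfl

end Tr

variable {ι : Type u} [Fintype ι] (f : ι → A) (hf : ∀ i, f i ∈ I)
  (hspan : Ideal.span (Set.range f) = I)

theorem τadd_eq (p m j : ℕ) :
    (ffData I M hM f hf hspan p).τadd m j = Canon.HHlin A (tr I M m (m + j) (Nat.le_add_right m j)) p := by
  induction j with
  | zero =>
    have h1 : tr I M m (m + 0) (Nat.le_add_right m 0) = 𝟙 _ :=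
      (eq_tr I M m m le_rfl (𝟙 _) (Category.comp_id _)).symm
    rw [h1, HHlin_id]
    rfl
  | succ j ih =>
    have h1 : Formal.modPowTrans I (m + j) M ≫ tr I M m (m + j) (Nat.le_add_right m j) =
        tr I M m (m + (j + 1)) (Nat.le_add_right m (j + 1)) := by
      apply eq_tr
      rw [← Category.assoc, Formal.modPowπ_trans, π_tr]
    rw [← h1, HHlin_comp, ← ih]
    rfl

section Main

omit [Fintype ι] in
theorem exists_gens : ∃ s : Finset A, Ideal.span (s : Set A) = I :=
  (isNoetherianRing_iff_ideal_fg A).mp inferInstance I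

include hM in
/-- kernels of `H^p(M) → H^p(M / I^(n+1) M)` are adically small -/
theorem ker_toHHmodPow_subset (p : ℕ) :
    ∃ c : ℕ, ∀ n : ℕ, c ≤ n →
      ((Formal.toHHmodPow I M p n).ker : Set (Coh.HH X M p)) ⊆
        ((I ^ (n - c) • (⊤ : Submodule A (Coh.HH X M p)) : Submodule A (Coh.HH X M p)) :
          Set (Coh.HH X M p)) := by
  obtain ⟨s, hs⟩ := exists_gens I
  have hf : ∀ i : ↥s, (i : A) ∈ I := fun i => hs ▸ Ideal.subset_span i.2
  have hspan : Ideal.span (Set.range (fun i : ↥s => (i : A))) = I := by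
    rw [Subtype.range_coe_subtype]
    exact hs
  obtain ⟨c, hc⟩ := Groth.Agent.Lib.Helper91.FormalFnAlg.c1
    (ffData I M hM (fun i : ↥s => (i : A)) hf hspan p) hf
  refine ⟨c, fun n hn x hx => ?_⟩
  have hx' : x ∈ LinearMap.ker ((ffData I M hM (fun i : ↥s => (i : A)) hf hspan p).b (n + 1)) := hx
  have h1 := hc (n + 1) (by omega) hx'
  have h2 : I ^ (n + 1 - c) ≤ I ^ (n - c) := Ideal.pow_le_pow_right (by omega)
  exact Submodule.smul_mono h2 le_rfl h1

include hM in
/-- uniform Mittag-Leffler -/
theorem range_completion_map_eq (p : ℕ) :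
    ∃ c : ℕ, ∀ (n k : ℕ) (h : n ≤ k), n + c ≤ k →
      Set.range (Sheaf.H.map ((SheafOfModules.toSheaf X.ringCatSheaf).map
        ((Formal.completion I M).map (homOfLE h).op)) p) =
        Set.range (Formal.toHHmodPow I M p n) := by
  obtain ⟨s, hs⟩ := exists_gens I
  have hf : ∀ i : ↥s, (i : A) ∈ I := fun i => hs ▸ Ideal.subset_span i.2
  have hspan : Ideal.span (Set.range (fun i : ↥s => (i : A))) = I := by
    rw [Subtype.range_coe_subtype]
    exact hs
  obtain ⟨c, hc⟩ := Groth.Agent.Lib.Helper91.FormalFnAlg.c2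
    (ffData I M hM (fun i : ↥s => (i : A)) hf hspan p) hf
  refine ⟨c, fun n k h hk => ?_⟩
  have e : k + 1 = n + 1 + (k - n) := by omega
  have h1 := hc (n + 1) (k - n) (by omega)
  rw [τadd_eq] at h1
  have h2 := range_HHlin_tr_congr (A := A) I M p (n + 1) (k + 1) (n + 1 + (k - n)) e
    (Nat.succ_le_succ h)
  have h1' : (LinearMap.range (Canon.HHlin A
      (tr I M (n + 1) (n + 1 + (k - n)) (Nat.le_add_right (n + 1) (k - n))) p) :
      Set (Coh.HH X (Formal.modPow I (n + 1) M) p)) = Set.range (Formal.toHHmodPow I M p n) :=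
    congrArg (fun S : Submodule A (Coh.HH X (Formal.modPow I (n + 1) M) p) =>
      (S : Set (Coh.HH X (Formal.modPow I (n + 1) M) p))) h1
  rw [completion_map_eq_tr]
  change (LinearMap.range (Canon.HHlin A (tr I M (n + 1) (k + 1) (Nat.succ_le_succ h)) p) :
    Set (Coh.HH X (Formal.modPow I (n + 1) M) p)) = _
  rw [h2]
  exact h1'

/-- the shift `lim_{n ≥ 0} P n → lim_{n ≥ 1} P n` -/
noncomputable def shiftLim (p : ℕ) :
    (ffData I M hM f hf hspan p).limP →+ Formal.HHlim I M p where
  toFun y := ⟨fun n => y.1 (n + 1), fun n => y.2 (n + 1)⟩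
  map_zero' := rfl
  map_add' _ _ := rfl

theorem shiftLim_bijective (p : ℕ) : Function.Bijective (shiftLim I M hM f hf hspan p) := by
  constructor
  · intro y y' h
    have h1 : ∀ n, y.1 (n + 1) = y'.1 (n + 1) := fun n =>
      congrFun (congrArg Subtype.val h) n
    apply Subtype.ext
    funext n
    cases n with
    | zero => rw [← y.2 0, ← y'.2 0, h1 0]
    | succ n => exact h1 n
  · intro z
    refine ⟨⟨fun n => Nat.casesOn n ((ffData I M hM f hf hspan p).τ 0 (z.1 0)) (fun n => z.1 n),
      ?_⟩, ?_⟩
    · intro n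
      cases n with
      | zero => rfl
      | succ n => exact z.2 n
    · apply Subtype.ext
      funext n
      rfl

theorem shiftLim_toLimP (p : ℕ) (x : Coh.HH X M p) :
    shiftLim I M hM f hf hspan p ((ffData I M hM f hf hspan p).toLimP x) =
      Formal.toHHlim I M p x := rfl

include hM in
/-- formal functions, additive-equivalence form -/
theorem nonempty_addEquiv (p : ℕ) :
    Nonempty (AdicCompletion I (Coh.HH X M p) ≃+ Formal.HHlim I M p) := by
  obtain ⟨s, hs⟩ := exists_gens I
  have hf : ∀ i : ↥s, (i : A) ∈ I := fun i => hs ▸ Ideal.subset_span i.2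
  have hspan : Ideal.span (Set.range (fun i : ↥s => (i : A))) = I := by
    rw [Subtype.range_coe_subtype]
    exact hs
  have h3 := Groth.Agent.Lib.Helper91.FormalFnAlg.c3
    (ffData I M hM (fun i : ↥s => (i : A)) hf hspan p) hf
  have h4 := shiftLim_bijective I M hM (fun i : ↥s => (i : A)) hf hspan p
  exact ⟨AddEquiv.ofBijective
    ((shiftLim I M hM (fun i : ↥s => (i : A)) hf hspan p).comp
      (ffData I M hM (fun i : ↥s => (i : A)) hf hspan p).Φ) (h4.comp h3)⟩

include hM in
/-- formal functions over a complete base -/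
theorem toHHlim_bijective [IsAdicComplete I A] (p : ℕ) :
    Function.Bijective (Formal.toHHlim I M p) := by
  obtain ⟨s, hs⟩ := exists_gens I
  have hf : ∀ i : ↥s, (i : A) ∈ I := fun i => hs ▸ Ideal.subset_span i.2
  have hspan : Ideal.span (Set.range (fun i : ↥s => (i : A))) = I := by
    rw [Subtype.range_coe_subtype]
    exact hs
  have h3 := Groth.Agent.Lib.Helper91.FormalFnAlg.c3
    (ffData I M hM (fun i : ↥s => (i : A)) hf hspan p) hf
  have h4 := shiftLim_bijective I M hM (fun i : ↥s => (i : A)) hf hspan p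
  haveI : Module.Finite A (Coh.HH X M p) := Groth.Agent.S0002.result A X M hM p
  haveI : IsAdicComplete I (Coh.HH X M p) :=
    Groth.Agent.Lib.Helper91.AdicAux.isAdicComplete_of_finite I _
  have h5 : Function.Bijective (AdicCompletion.of I (Coh.HH X M p)) :=
    AdicCompletion.of_bijective_iff.mpr inferInstance
  have h6 := (h4.comp h3).comp h5
  convert h6 using 1
  funext x
  change Formal.toHHlim I M p x = shiftLim I M hM (fun i : ↥s => (i : A)) hf hspan p
    ((ffData I M hM (fun i : ↥s => (i : A)) hf hspan p).Φ (AdicCompletion.of I _ x))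
  have h7 : (ffData I M hM (fun i : ↥s => (i : A)) hf hspan p).Φ
      (AdicCompletion.of I (Coh.HH X M p) x) =
      (ffData I M hM (fun i : ↥s => (i : A)) hf hspan p).toLimP x :=
    (ffData I M hM (fun i : ↥s => (i : A)) hf hspan p).Φ_of x
  exact ((congrArg (shiftLim I M hM (fun i : ↥s => (i : A)) hf hspan p) h7).trans
    (shiftLim_toLimP I M hM (fun i : ↥s => (i : A)) hf hspan p x)).symm

end Main

end Groth.Agent.Lib.Helper88.FormalFn
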